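import Cfsg.Agent.SL4Geo89.ZeroSum

/-!
A determinant one diagonal matrix separating two related linear conditions in four coordinates (helper89).
-/

set_option autoImplicit false

namespace Cfsg.Agent.SL4Geo89

open Finset

variable {ι : Type} [Fintype ι] [DecidableEq ι] {F : Type*} [Field F] [Fintype F]

omit [DecidableEq ι] in
theorem sum4 {M : Type*} [AddCommMonoid M] (hι : Fintype.card ι = 4) {i j l m : ι}
    (hij : i ≠ j) (hil : i ≠ l) (him : i ≠ m) (hjl : j ≠ l) (hjm : j ≠ m) (hlm : l ≠ m) (f : ι → M) :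
    ∑ x, f x = f i + f j + f l + f m := by
  classical
  have h : Finset.univ = ({i, j, l, m} : Finset ι) := by
    refine (Finset.eq_univ_of_card _ ?_).symm
    rw [hι, Finset.card_insert_of_notMem (by simp [hij, hil, him]),
      Finset.card_insert_of_notMem (by simp [hjl, hjm]), Finset.card_pair hlm]
  rw [h, Finset.sum_insert (by simp [hij, hil, him]), Finset.sum_insert (by simp [hjl, hjm]),
    Finset.sum_pair hlm]
  simp [add_assoc]

omit [DecidableEq ι] in
theorem prod4 {M : Type*} [CommMonoid M] (hι : Fintype.card ι = 4) {i j l m : ι}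
    (hij : i ≠ j) (hil : i ≠ l) (him : i ≠ m) (hjl : j ≠ l) (hjm : j ≠ m) (hlm : l ≠ m) (f : ι → M) :
    ∏ x, f x = f i * f j * f l * f m := by
  have := sum4 (M := Additive M) hι hij hil him hjl hjm hlm fun x => Additive.ofMul (f x)
  simpa [← ofMul_prod, ← ofMul_mul] using this

omit [DecidableEq ι] in
theorem exists_fourth (hι : Fintype.card ι = 4) (i j l : ι) : ∃ m, m ≠ i ∧ m ≠ j ∧ m ≠ l := by
  classical
  obtain ⟨m, -, hm⟩ := Finset.exists_mem_notMem_of_card_lt_card (s := ({i, j, l} : Finset ι))
    (t := Finset.univ) (Finset.card_le_three.trans_lt (by rw [Finset.card_univ]; omega))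
  simp only [Finset.mem_insert, Finset.mem_singleton, not_or] at hm
  exact ⟨m, hm⟩

/-- Two related linear conditions are separated by a diagonal matrix of determinant one. -/
theorem exists_weight (hι : Fintype.card ι = 4) (hq : 6 ≤ Fintype.card F) {A B : ι → F}
    (hAB : ∀ i, A i = 0 ↔ B i = 0)
    (h3 : ∃ i j l, i ≠ j ∧ i ≠ l ∧ j ≠ l ∧ A i ≠ 0 ∧ A j ≠ 0 ∧ A l ≠ 0)
    (h4 : (∀ i, A i ≠ 0) → ∃ a b, A a * B a ≠ A b * B b) :
    ∃ t : ι → Fˣ, ∏ i, t i = 1 ∧ ∑ i, A i * (t i : F) = 0 ∧
      ∑ i, B i * (((t i)⁻¹ : Fˣ) : F) ≠ 0 := by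
  classical
  obtain ⟨i, j, l, hij, hil, hjl, hi, hj, hl⟩ := h3
  obtain ⟨m, hmi, hmj, hml⟩ := exists_fourth hι i j l
  by_cases hm : A m = 0
  · -- three terms and a free coordinate
    have hBm : B m = 0 := (hAB m).mp hm
    set a := A i * B i
    set b := A j * B j
    set c := A l * B l
    have ha : a ≠ 0 := mul_ne_zero hi (fun e => hi ((hAB i).mpr e))
    let p : Polynomial F := Polynomial.C a * Polynomial.X ^ 2 + Polynomial.C (a + b - c) * Polynomial.X +
      Polynomial.C b
    have hp : p.degree = (2 : ℕ) := Polynomial.degree_quadratic ha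
    have hp0 : p ≠ 0 := fun e => by rw [e] at hp; simp at hp
    obtain ⟨x, -, hx⟩ := Finset.exists_mem_notMem_of_card_lt_card
      (s := insert (0 : F) (insert (-1 : F) p.roots.toFinset)) (t := Finset.univ) (by
        have h1 := Finset.card_insert_le (0 : F) (insert (-1 : F) p.roots.toFinset)
        have h2 := Finset.card_insert_le (-1 : F) p.roots.toFinset
        have h3 := Multiset.toFinset_card_le p.roots
        have h4 := p.card_roots'
        have h5 : p.natDegree = 2 := Polynomial.natDegree_eq_of_degree_eq_some hp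
        rw [Finset.card_univ]
        omega)
    simp only [Finset.mem_insert, Multiset.mem_toFinset, Polynomial.mem_roots hp0, not_or] at hx
    obtain ⟨hx0, hx1, hxr⟩ := hx
    have h1x : 1 + x ≠ 0 := fun e => hx1 (by linear_combination e)
    set ti : Fˣ := Units.mk0 ((A i)⁻¹) (inv_ne_zero hi) with hti
    set tj : Fˣ := Units.mk0 (x / A j) (div_ne_zero hx0 hj) with htj
    set tl : Fˣ := Units.mk0 (-(1 + x) / A l) (div_ne_zero (neg_ne_zero.mpr h1x) hl) with htl
    set t : ι → Fˣ := fun y => if y = i then ti else if y = j then tj else if y = l then tl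
      else (ti * tj * tl)⁻¹ with ht
    have e1 : t i = ti := by simp [ht]
    have e2 : t j = tj := by simp [ht, hij.symm]
    have e3 : t l = tl := by simp [ht, hil.symm, hjl.symm]
    have e4 : t m = (ti * tj * tl)⁻¹ := by simp [ht, hmi, hmj, hml]
    refine ⟨t, ?_, ?_, ?_⟩
    · rw [prod4 hι hij hil hmi.symm hjl hmj.symm hml.symm, e1, e2, e3, e4, mul_inv_cancel]
    · rw [sum4 hι hij hil hmi.symm hjl hmj.symm hml.symm, e1, e2, e3, hm, hti, htj, htl]
      simp only [Units.val_mk0]
      field_simp
      ring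
    · rw [sum4 hι hij hil hmi.symm hjl hmj.symm hml.symm, e1, e2, e3, hBm, hti, htj, htl]
      intro h
      refine hxr ?_
      simp only [Units.val_inv_eq_inv_val, Units.val_mk0, zero_mul, add_zero] at h
      field_simp at h
      simp only [p, Polynomial.IsRoot.def, Polynomial.eval_add, Polynomial.eval_mul,
        Polynomial.eval_C, Polynomial.eval_pow, Polynomial.eval_X, a, b, c]
      linear_combination h
  · -- all four coordinates
    have hall : ∀ y, A y ≠ 0 := by
      intro y
      have h : y ∈ ({i, j, l, m} : Finset ι) := by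
        rw [Finset.eq_univ_of_card ({i, j, l, m} : Finset ι) (by
          rw [hι, Finset.card_insert_of_notMem (by simp [hij, hil, hmi.symm]),
            Finset.card_insert_of_notMem (by simp [hjl, hmj.symm]), Finset.card_pair hml.symm])]
        exact Finset.mem_univ y
      simp only [Finset.mem_insert, Finset.mem_singleton] at h
      rcases h with rfl | rfl | rfl | rfl <;> assumption
    obtain ⟨u, v, huv⟩ := h4 hall
    have huvne : u ≠ v := fun e => huv (e ▸ rfl)
    obtain ⟨n, hs, hp, x, y, hxy⟩ := exists_zero_sum hq (C := ∏ i, A i)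
      (Finset.prod_ne_zero_iff.mpr fun y _ => hall y)
    have hxyne : x ≠ y := fun e => hxy (e ▸ rfl)
    have hn0 : ∀ z, n z ≠ 0 := fun z e => by
      have : ∏ i, n i = 0 := Finset.prod_eq_zero (Finset.mem_univ z) e
      rw [hp] at this
      exact (Finset.prod_ne_zero_iff.mpr fun y _ => hall y) this
    -- a bijection taking `x, y` to `u, v`
    let e₀ : Fin 4 ≃ ι := (Fintype.equivFinOfCardEq hι).symm
    let π₁ : Fin 4 ≃ ι := e₀.trans (Equiv.swap (e₀ x) u)
    have hπ₁ : π₁ x = u := by simp [π₁]
    let π : Fin 4 ≃ ι := π₁.trans (Equiv.swap (π₁ y) v)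
    have hπy : π y = v := by simp [π]
    have hπx : π x = u := by
      have h1 : π₁ x ≠ π₁ y := fun h => hxyne (π₁.injective h)
      simp only [π, Equiv.trans_apply]
      rw [hπ₁, Equiv.swap_apply_of_ne_of_ne (by rwa [hπ₁] at h1) huvne]
    have key : ∀ π : Fin 4 ≃ ι, ∑ z, A (π z) * B (π z) / n z ≠ 0 →
        ∃ t : ι → Fˣ, ∏ i, t i = 1 ∧ ∑ i, A i * (t i : F) = 0 ∧
          ∑ i, B i * (((t i)⁻¹ : Fˣ) : F) ≠ 0 := by
      intro π hne
      refine ⟨fun w => Units.mk0 (n (π.symm w) / A w) (div_ne_zero (hn0 _) (hall w)), ?_, ?_, ?_⟩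
      · refine Units.ext ?_
        rw [Units.coe_prod, Units.val_one]
        simp only [Units.val_mk0, Finset.prod_div_distrib]
        rw [Equiv.prod_comp π.symm n, hp, div_self]
        exact Finset.prod_ne_zero_iff.mpr fun y _ => hall y
      · rw [← hs, ← Equiv.sum_comp π.symm n]
        refine Finset.sum_congr rfl fun w _ => ?_
        rw [Units.val_mk0, mul_div_cancel₀ _ (hall w)]
      · refine fun h => hne (Eq.trans ?_ h)
        rw [← Equiv.sum_comp π fun w => B w * ((((Units.mk0 (n (π.symm w) / A w)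
          (div_ne_zero (hn0 _) (hall w))))⁻¹ : Fˣ) : F)]
        refine Finset.sum_congr rfl fun z _ => ?_
        rw [Units.val_inv_eq_inv_val, Units.val_mk0, π.symm_apply_apply, inv_div]
        ring
    by_cases h : ∑ z, A (π z) * B (π z) / n z = 0
    · refine key ((Equiv.swap x y).trans π) fun h' => ?_
      have hd : ∑ z, (A (π z) * B (π z) / n z -
          A (((Equiv.swap x y).trans π) z) * B (((Equiv.swap x y).trans π) z) / n z) = 0 := by
        rw [Finset.sum_sub_distrib, h, h', sub_zero]
      rw [← Finset.sum_subset (Finset.subset_univ ({x, y} : Finset (Fin 4)))] at hd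
      · rw [Finset.sum_pair hxyne] at hd
        simp only [Equiv.trans_apply, Equiv.swap_apply_left, Equiv.swap_apply_right, hπx, hπy] at hd
        have : (A u * B u - A v * B v) * ((n y - n x) / (n x * n y)) = 0 := by
          have := hn0 x
          have := hn0 y
          field_simp at hd ⊢
          linear_combination hd
        rcases mul_eq_zero.mp this with h1 | h1
        · exact huv (sub_eq_zero.mp h1)
        · rcases div_eq_zero_iff.mp h1 with h2 | h2
          · exact hxy (sub_eq_zero.mp h2).symm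
          · exact mul_ne_zero (hn0 x) (hn0 y) h2
      · intro z _ hz
        simp only [Finset.mem_insert, Finset.mem_singleton, not_or] at hz
        simp [Equiv.swap_apply_of_ne_of_ne hz.1 hz.2]
    · exact key π h

end Cfsg.Agent.SL4Geo89
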