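import Cfsg.Agent.MaxSub.Frame.Main
import Cfsg.Agent.MaxSub.Frame.Transport
import Cfsg.Agent.S5635
import Cfsg.Agent.SL4Geo89.Weight

/-!
The monomial group is maximal in the special linear group of degree four, at least seven field elements
(helper89).
-/

set_option autoImplicit false

namespace Cfsg.Agent.SL4Geo89

open Matrix Cfsg.Agent.MaxSub Cfsg.Agent.MaxSub.Frame

section Core

variable {ι : Type} [Fintype ι] [DecidableEq ι] {F : Type*} [Field F]

/-- No elementary transvection. -/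
def NoEl (M : Subgroup (GL ι F)) : Prop := ∀ (i j : ι) (c : F), i ≠ j → c ≠ 0 → el i j c ∉ M

theorem dual_tv {v φ : ι → F} (h : φ ⬝ᵥ v = 0) : Frame.dual (tv v φ) = tv (-φ) v := by
  refine Units.ext ?_
  rw [dual_coe, tv_inv h, tv_coe (by rw [neg_dotProduct, h, neg_zero]),
    tv_coe (by rw [dotProduct_neg, dotProduct_comm, h, neg_zero]), transpose_add, transpose_one]
  congr 1
  ext a b
  simp [vecMulVec, mul_comm]

theorem hasMon_dual {M : Subgroup (GL ι F)} (hM : HasMon M) : HasMon (M.map Frame.dual) :=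
  fun g hg hdet => ⟨Frame.dual g, hM _ hg.dual (by rw [det_dual, hdet, inv_one]), Frame.dual_dual g⟩

variable [Finite F] {M : Subgroup (GL ι F)}

theorem el_of_axis (hM : HasMon M) (h4 : 4 ≤ Fintype.card ι) (hq : 3 ≤ Nat.card F) {p : ι → F}
    {b : ι} {c : F} (hp : p ≠ 0) (hc : c ≠ 0) (h : Pi.single b c ∈ dualSet M p) : ¬ NoEl M := by
  intro hno
  have hb : p b = 0 := by
    have h1 := h.1
    rw [single_dotProduct, mul_eq_zero] at h1
    exact h1.resolve_left hc
  have h2 : (-c) • p ∈ dualSet (M.map Frame.dual) (Pi.single b 1) := by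
    have h0 : p ⬝ᵥ (Pi.single b 1 : ι → F) = 0 := by rw [dotProduct_single, hb, zero_mul]
    refine ⟨by rw [smul_dotProduct, h0, smul_zero], tv p (Pi.single b c), h.2, ?_⟩
    rw [dual_tv h.1, ← tv_smul_comm _ h0, ← Pi.single_smul']
    congr 1
    funext x
    by_cases hx : x = b
    · subst hx; simp
    · simp [Pi.single_eq_of_ne hx]
  obtain ⟨i, j, d, hij, hd, hel⟩ := (hasMon_dual hM).el_of_centre h4 hq h2
    (smul_ne_zero (neg_ne_zero.mpr hc) hp)
  obtain ⟨g, hg, he⟩ := hel
  refine hno j i (-d) hij.symm (neg_ne_zero.mpr hd) ?_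
  suffices h : g = el j i (-d) from h ▸ hg
  rw [← Frame.dual_dual g, he]
  have hcoe : (((el i j d)⁻¹ : GL ι F) : Matrix ι ι F) = transvection i j (-d) := by
    rw [show (el i j d)⁻¹ = el i j (-d) by rw [el, tv_inv (el_ortho hij d), el, Pi.single_neg],
      el_coe hij]
  refine Units.ext ?_
  rw [dual_coe, hcoe, el_coe hij.symm]
  simp [transvection, transpose_add]

/-- The determinant one diagonal matrix which is a homology up to a scalar. -/
def ht (a : ι) (s : Fˣ) : ι → Fˣ := Function.update (fun _ => s) a (s⁻¹ ^ 3)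

omit [Fintype ι] [Finite F] in
theorem ht_inv (a : ι) (s : Fˣ) : ∀ i, (ht a s i)⁻¹ = ht a s⁻¹ i := fun i => by
  by_cases hi : i = a
  · subst hi; simp [ht, inv_pow]
  · simp [ht, Function.update_of_ne hi]

omit [Finite F] in
theorem prod_ht (hι : Fintype.card ι = 4) (a : ι) (s : Fˣ) : ∏ i, ht a s i = 1 := by
  rw [ht, Finset.prod_update_of_mem (Finset.mem_univ a), Finset.prod_const,
    Finset.card_sdiff_of_subset (Finset.subset_univ _), Finset.card_univ, hι, Finset.card_singleton]
  simp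

/-- The shift of the homology belonging to `s`. -/
def shift (s : Fˣ) : F := ((s⁻¹ : Fˣ) : F) ^ 4 - 1

omit [Fintype ι] [DecidableEq ι] [Finite F] in
theorem shift_rel (s : Fˣ) :
    shift s + shift s⁻¹ + shift s * shift s⁻¹ = 0 := by
  have h : (((s⁻¹ : Fˣ) : F) * (s : F)) ^ 4 = 1 := by rw [← Units.val_mul, inv_mul_cancel, Units.val_one, one_pow]
  simp only [shift, inv_inv]
  linear_combination h

omit [Finite F] in
theorem conj_ht_mulVec (g : GL ι F) (a : ι) (s : Fˣ) (v : ι → F) :
    ((g * dg (ht a s) * g⁻¹ : GL ι F) : Matrix ι ι F) *ᵥ v =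
      (s : F) • (v + (shift s * (((g⁻¹ : GL ι F) : Matrix ι ι F) *ᵥ v) a) •
        fun r => (g : Matrix ι ι F) r a) := by
  set w := ((g⁻¹ : GL ι F) : Matrix ι ι F) *ᵥ v with hw
  have h : (dg (ht a s) : Matrix ι ι F) *ᵥ w = (s : F) • (w + (shift s * w a) • Pi.single a 1) := by
    rw [dg_mulVec]
    funext i
    by_cases hi : i = a
    · subst hi
      simp [ht, shift]
      field_simp
      ring
    · simp [ht, Function.update_of_ne hi, Pi.single_eq_of_ne hi]
  rw [Units.val_mul, Units.val_mul, ← mulVec_mulVec, ← mulVec_mulVec, ← hw, h, mulVec_smul,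
    mulVec_add, mulVec_smul, hw, mulVec_inv_mulVec, mulVec_single_one]
  rfl

omit [Finite F] in
theorem conj_ht_inv (g : GL ι F) (a : ι) (s : Fˣ) :
    (g * dg (ht a s) * g⁻¹)⁻¹ = g * dg (ht a s⁻¹) * g⁻¹ := by
  rw [_root_.mul_inv_rev, _root_.mul_inv_rev, inv_inv, mul_assoc]
  congr 2
  refine Units.ext ?_
  show ((dg (ht a s))⁻¹ : GL ι F).1 = _
  rw [dg_inv_coe, dg_coe]
  simp only [ht_inv]

variable (hM : HasMon M) (hι : Fintype.card ι = 4) (hq : 6 ≤ Nat.card F) (hno : NoEl M)
  {s : Fˣ} (hs : s ^ 4 ≠ 1)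
include hM hι hq hno hs

omit hM hι hq hno in
theorem shift_ne : shift s ≠ 0 := fun h => hs (by
  have h' : (s⁻¹ : Fˣ) ^ 4 = 1 := Units.ext (by simpa using sub_eq_zero.mp h)
  simpa [inv_pow] using h')

/-- The zeros of a member and of its inverse correspond. -/
theorem inv_zero_of_zero {g : GL ι F} (hg : g ∈ M) {a b : ι} (h : (g : Matrix ι ι F) b a = 0) :
    ((g⁻¹ : GL ι F) : Matrix ι ι F) a b = 0 := by
  by_contra hφ
  set p : ι → F := fun r => (g : Matrix ι ι F) r a with hp
  set φ := ((g⁻¹ : GL ι F) : Matrix ι ι F) a b with hφd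
  set k := shift s with hk
  set x := g * dg (ht a s) * g⁻¹ with hx
  set y := dg (ht b s) with hy
  have hxM : x ∈ M := mul_mem (mul_mem hg (hM.dg_mem (prod_ht hι a s))) (inv_mem hg)
  have hyM : y ∈ M := hM.dg_mem (prod_ht hι b s)
  have hk1 : 1 + k ≠ 0 := by
    rw [hk, shift, add_sub_cancel]
    exact pow_ne_zero _ (Units.ne_zero _)
  set c := -(k ^ 2 * φ) / (1 + k) with hc
  have hc0 : c ≠ 0 := div_ne_zero (neg_ne_zero.mpr (mul_ne_zero (pow_ne_zero _ (shift_ne hs)) hφ)) hk1
  have hp0 : p ≠ 0 := by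
    obtain ⟨i, hi⟩ := Frame.col_ne_zero g a
    exact fun e => hi (congrFun e i)
  have hT : Pi.single b c ⬝ᵥ p = 0 := by rw [single_dotProduct, hp]; simp [h]
  have hyv : ∀ v, (y : Matrix ι ι F) *ᵥ v = (s : F) • (v + (k * v b) • Pi.single b 1) := by
    intro v
    have h1 := conj_ht_mulVec (1 : GL ι F) b s v
    simp only [inv_one, mul_one, one_mul, Units.val_one, one_mulVec] at h1
    rw [h1]
    congr 3
    funext r
    simp [Matrix.one_apply, Pi.single_apply]
  have hxv : ∀ v, (x : Matrix ι ι F) *ᵥ v =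
      (s : F) • (v + (k * (((g⁻¹ : GL ι F) : Matrix ι ι F) *ᵥ v) a) • p) := conj_ht_mulVec g a s
  clear_value x y
  have key : tv p (Pi.single b c) * (x * y) = y * x := by
    refine gl_ext fun v => ?_
    rw [Units.val_mul, Units.val_mul, Units.val_mul, ← mulVec_mulVec, ← mulVec_mulVec, ← mulVec_mulVec,
      tv_mulVec hT, hyv v, hxv v, hxv, hyv, single_dotProduct]
    set F₁ := (((g⁻¹ : GL ι F) : Matrix ι ι F) *ᵥ v) a
    have e1 : (((g⁻¹ : GL ι F) : Matrix ι ι F) *ᵥ ((s : F) • (v + (k * v b) • Pi.single b (1 : F)))) a =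
        (s : F) * (F₁ + k * v b * φ) := by
      simp [mulVec_smul, mulVec_add, F₁, φ]
      ring
    rw [e1]
    have hb : p b = 0 := h
    funext r
    simp only [Pi.add_apply, Pi.smul_apply, smul_eq_mul, hb, hc, mul_zero, add_zero,
      Pi.single_eq_same, mul_one]
    field_simp
    ring
  refine el_of_axis hM (le_of_eq hι.symm) (by omega) hp0 hc0 ⟨hT, ?_⟩ hno
  rw [show tv p (Pi.single b c) = y * x * (x * y)⁻¹ by rw [← key]; group]
  exact mul_mem (mul_mem hyM hxM) (inv_mem (mul_mem hxM hyM))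

theorem zero_iff {g : GL ι F} (hg : g ∈ M) (a b : ι) :
    (g : Matrix ι ι F) b a = 0 ↔ ((g⁻¹ : GL ι F) : Matrix ι ι F) a b = 0 :=
  ⟨inv_zero_of_zero hM hι hq hno hs hg, fun h => by
    simpa using inv_zero_of_zero hM hι hq hno hs (inv_mem hg) h⟩

omit hM hι hq hno hs [Finite F] in
theorem row_sum (g : GL ι F) (a : ι) :
    ∑ i, ((g⁻¹ : GL ι F) : Matrix ι ι F) a i * (g : Matrix ι ι F) i a = 1 := by
  have h := congrFun (congrFun (Units.inv_mul g) a) a
  rwa [Matrix.mul_apply, one_apply_eq] at h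

omit hM hι hq hno hs [Finite F] in
/-- The coefficients of the two conditions. -/
theorem conj_entry (g : GL ι F) (a : ι) (s : Fˣ) (t : ι → Fˣ) {i j : ι} (hij : i ≠ j) :
    ((g * dg (ht a s) * g⁻¹ * dg t * (g * dg (ht a s) * g⁻¹)⁻¹ : GL ι F) : Matrix ι ι F) i j =
      (g : Matrix ι ι F) i a * ((g⁻¹ : GL ι F) : Matrix ι ι F) a j *
        ∑ r, (shift s * shift s⁻¹ * (((g⁻¹ : GL ι F) : Matrix ι ι F) a r * (g : Matrix ι ι F) r a) +
          (if r = i then shift s⁻¹ else 0) + (if r = j then shift s else 0)) * (t r : F) := by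
  set φ : ι → F := fun r => ((g⁻¹ : GL ι F) : Matrix ι ι F) a r with hφ
  set p : ι → F := fun r => (g : Matrix ι ι F) r a with hp
  have h2 := congrFun (mulVec_single_one
    ((g * dg (ht a s) * g⁻¹ * dg t * (g * dg (ht a s) * g⁻¹)⁻¹ : GL ι F) : Matrix ι ι F) j) i
  rw [Matrix.col_apply] at h2
  rw [← h2, conj_ht_inv, Units.val_mul, Units.val_mul (g * dg (ht a s) * g⁻¹), ← mulVec_mulVec,
    ← mulVec_mulVec, conj_ht_mulVec g a s⁻¹, mulVec_smul, dg_mulVec, mulVec_smul,
    conj_ht_mulVec g a s, smul_smul, ← Units.val_mul, inv_mul_cancel, Units.val_one, one_smul]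
  have e1 : (((g⁻¹ : GL ι F) : Matrix ι ι F) *ᵥ (Pi.single j 1 : ι → F)) a = φ j := by
    rw [mulVec_single_one]; rfl
  rw [e1]
  have e2 : ∀ w : ι → F, (((g⁻¹ : GL ι F) : Matrix ι ι F) *ᵥ w) a = ∑ r, φ r * w r := fun w => rfl
  rw [e2]
  simp only [Pi.add_apply, Pi.smul_apply, smul_eq_mul, add_mul, mul_add, ite_mul, zero_mul,
    Finset.sum_add_distrib, Finset.sum_ite_eq', Finset.mem_univ, if_true, Pi.single_eq_of_ne hij]
  have e3 : ∑ r, φ r * ((t r : F) * (Pi.single j (1 : F) : ι → F) r) = φ j * (t j : F) := by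
    rw [Finset.sum_eq_single j (fun r _ h => by simp [Pi.single_eq_of_ne h]) (by simp)]
    simp
  have e4 : ∑ r, φ r * ((t r : F) * (shift s⁻¹ * φ j * p r)) =
      shift s⁻¹ * φ j * ∑ r, φ r * p r * (t r : F) := by
    rw [Finset.mul_sum]; exact Finset.sum_congr rfl fun r _ => by ring
  have e5 : ∑ r, shift s * shift s⁻¹ * (φ r * p r) * (t r : F) =
      shift s * shift s⁻¹ * ∑ r, φ r * p r * (t r : F) := by
    rw [Finset.mul_sum]; exact Finset.sum_congr rfl fun r _ => by ring
  rw [e3, e4, e5]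
  ring

omit hM hι hq hno hs [Finite F] in
theorem conj_diag (g : GL ι F) (a i : ι) (s : Fˣ) :
    ((g * dg (ht a s) * g⁻¹ : GL ι F) : Matrix ι ι F) i i =
      (s : F) * (1 + shift s * (((g⁻¹ : GL ι F) : Matrix ι ι F) a i * (g : Matrix ι ι F) i a)) := by
  have h2 := congrFun (mulVec_single_one ((g * dg (ht a s) * g⁻¹ : GL ι F) : Matrix ι ι F) i) i
  rw [Matrix.col_apply] at h2
  rw [← h2, conj_ht_mulVec g a s, mulVec_single_one]
  simp [Matrix.col]
  ring

/-- An exceptional value. -/
theorem bad_half {g : GL ι F} (hg : g ∈ M) {a r : ι}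
    (hbad : 1 + shift s * (((g⁻¹ : GL ι F) : Matrix ι ι F) a r * (g : Matrix ι ι F) r a) = 0) :
    2 * (((g⁻¹ : GL ι F) : Matrix ι ι F) a r * (g : Matrix ι ι F) r a) = 1 ∧ shift s = -2 ∧
      shift s⁻¹ = -2 ∧ (2 : F) ≠ 0 := by
  set u := ((g⁻¹ : GL ι F) : Matrix ι ι F) a r * (g : Matrix ι ι F) r a
  have hxM : g * dg (ht a s) * g⁻¹ ∈ M := mul_mem (mul_mem hg (hM.dg_mem (prod_ht hι a s))) (inv_mem hg)
  have h := inv_zero_of_zero hM hι hq hno hs hxM (a := r) (b := r) (by rw [conj_diag, hbad, mul_zero])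
  rw [conj_ht_inv, conj_diag] at h
  have h' : 1 + shift s⁻¹ * u = 0 := (mul_eq_zero.mp h).resolve_left (Units.ne_zero _)
  have hu : u ≠ 0 := fun e => by rw [e, mul_zero, add_zero] at hbad; exact one_ne_zero hbad
  have hk : shift s⁻¹ = shift s := mul_right_cancel₀ hu (by linear_combination h' - hbad)
  have h2 := shift_rel s
  rw [hk] at h2
  have h3 : shift s = -2 := by
    have : shift s * (shift s + 2) = 0 := by linear_combination h2
    linear_combination (mul_eq_zero.mp this).resolve_left (shift_ne hs)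
  refine ⟨?_, h3, hk.trans h3, fun e => shift_ne hs (by rw [h3, e, neg_zero])⟩
  rw [h3] at hbad
  linear_combination -hbad

theorem bad_iff {g : GL ι F} (hg : g ∈ M) (a r : ι) :
    1 + shift s * (((g⁻¹ : GL ι F) : Matrix ι ι F) a r * (g : Matrix ι ι F) r a) = 0 ↔
      1 + shift s⁻¹ * (((g⁻¹ : GL ι F) : Matrix ι ι F) a r * (g : Matrix ι ι F) r a) = 0 := by
  constructor
  · intro h
    obtain ⟨-, e, e', -⟩ := bad_half hM hι hq hno hs hg h
    rwa [e', ← e]
  · intro h
    have hs' : (s⁻¹) ^ 4 ≠ 1 := fun e => hs (by simpa [inv_pow] using e)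
    obtain ⟨-, e, e', -⟩ := bad_half hM hι hq hno hs' hg h
    rw [inv_inv] at e'
    rwa [e', ← e]

variable [Fintype F] (h9 : s ^ 4 = -1 → Fintype.card F = 9)
include h9

omit hM hι hno hq hs in
theorem nine_of_shift (h : shift s = -2) : Fintype.card F = 9 := by
  refine h9 ?_
  have h' : (s⁻¹ : Fˣ) ^ 4 = -1 := Units.ext (by
    simp only [Units.val_pow_eq_pow_val, Units.val_neg, Units.val_one]
    rw [shift] at h
    linear_combination h)
  rw [inv_pow, inv_eq_iff_eq_inv] at h'
  rw [h']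
  simp

omit hM hι hno hq hs h9 in
theorem three_zero_of_nine [DecidableEq F] (h : Fintype.card F = 9) : (3 : F) = 0 := by
  have h' := FiniteField.cast_card_eq_zero F
  rw [h] at h'
  exact mul_self_eq_zero.mp (by linear_combination h')

/-- A column with three entries is impossible. -/
theorem false_of_three {g : GL ι F} (hg : g ∈ M) {a i j l : ι} (hij : i ≠ j) (hil : i ≠ l) (hjl : j ≠ l)
    (hi : (g : Matrix ι ι F) i a ≠ 0) (hj : (g : Matrix ι ι F) j a ≠ 0)
    (hl : (g : Matrix ι ι F) l a ≠ 0) : False := by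
  classical
  haveI : DecidableEq F := Classical.decEq F
  set u : ι → F := fun r => ((g⁻¹ : GL ι F) : Matrix ι ι F) a r * (g : Matrix ι ι F) r a with hu
  have hu0 : ∀ r, u r = 0 ↔ (g : Matrix ι ι F) r a = 0 := fun r =>
    ⟨fun h => (mul_eq_zero.mp h).elim (fun h => (zero_iff hM hι hq hno hs hg a r).mpr h) id,
      fun h => by simp [hu, h]⟩
  set k := shift s with hk
  set k' := shift s⁻¹ with hk'
  set κ := k * k' with hκ
  have hs' : (s⁻¹) ^ 4 ≠ 1 := fun e => hs (by simpa [inv_pow] using e)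
  have hk0 : k ≠ 0 := shift_ne hs
  have hk'0 : k' ≠ 0 := shift_ne hs'
  have hκ0 : κ ≠ 0 := mul_ne_zero hk0 hk'0
  have hrel : k + k' + κ = 0 := shift_rel s
  set bad : ι → Prop := fun r => 1 + k * u r = 0 with hbad
  have hbad' : ∀ r, bad r ↔ 1 + k' * u r = 0 := fun r => bad_iff hM hι hq hno hs hg a r
  have hhalf : ∀ r, bad r → 2 * u r = 1 ∧ (2 : F) ≠ 0 := fun r h =>
    ⟨(bad_half hM hι hq hno hs hg h).1, (bad_half hM hι hq hno hs hg h).2.2.2⟩
  have hsum : ∑ r, u r = 1 := row_sum g a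
  have hcard : 6 ≤ Fintype.card F := by rw [← Nat.card_eq_fintype_card]; exact hq
  have hstep : ∀ (x y : ι) (t : ι → Fˣ), x ≠ y → u x ≠ 0 → u y ≠ 0 → ∏ r, t r = 1 →
      ∑ r, (κ * u r + (if r = x then k' else 0) + (if r = y then k else 0)) * (t r : F) = 0 →
      ∑ r, (κ * u r + (if r = y then k' else 0) + (if r = x then k else 0)) *
        (((t r)⁻¹ : Fˣ) : F) = 0 := by
    intro x y t hxy hx hy ht1 h
    set X := g * dg (ht a s) * g⁻¹ with hX
    have hXM : X ∈ M := mul_mem (mul_mem hg (hM.dg_mem (prod_ht hι a s))) (inv_mem hg)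
    have hwM : X * dg t * X⁻¹ ∈ M := mul_mem (mul_mem hXM (hM.dg_mem ht1)) (inv_mem hXM)
    have h1 := inv_zero_of_zero hM hι hq hno hs hwM (a := y) (b := x) (by
      rw [hX, conj_entry g a s t hxy, h, mul_zero])
    have ei : (X * dg t * X⁻¹)⁻¹ = X * dg (fun r => (t r)⁻¹) * X⁻¹ := by
      simp only [_root_.mul_inv_rev, inv_inv, mul_assoc]
      congr 2
    rw [ei, hX, conj_entry g a s _ hxy.symm] at h1
    refine (mul_eq_zero.mp h1).resolve_left (mul_ne_zero (fun e => hy ((hu0 y).mpr e)) ?_)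
    intro e
    exact hx ((hu0 x).mpr ((zero_iff hM hι hq hno hs hg a x).mpr e))
  have fin : ∀ x y : ι, x ≠ y → u x ≠ 0 → u y ≠ 0 →
      (∃ i j l, i ≠ j ∧ i ≠ l ∧ j ≠ l ∧ ∀ r ∈ [i, j, l], u r ≠ 0 ∧ ((r = x ∨ r = y) → ¬ bad r)) →
      ((∀ r, u r ≠ 0) → ¬ bad x → ¬ bad y → ∃ c d,
        (κ * u c + (if c = x then k' else 0) + (if c = y then k else 0)) *
          (κ * u c + (if c = y then k' else 0) + (if c = x then k else 0)) ≠
        (κ * u d + (if d = x then k' else 0) + (if d = y then k else 0)) *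
          (κ * u d + (if d = y then k' else 0) + (if d = x then k else 0))) → False := by
    intro x y hxy hx hy hthree hfour
    set A : ι → F := fun r => κ * u r + (if r = x then k' else 0) + (if r = y then k else 0) with hA
    set B : ι → F := fun r => κ * u r + (if r = y then k' else 0) + (if r = x then k else 0) with hB
    have hzA : ∀ r, A r = 0 ↔ ((r = x ∨ r = y) ∧ bad r) ∨ (r ≠ x ∧ r ≠ y ∧ u r = 0) := by
      intro r
      by_cases h1 : r = x
      · subst h1
        simp only [hA, if_neg hxy, if_true, add_zero, true_or, true_and, ne_eq, not_true,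
          false_and, or_false]
        rw [show κ * u r + k' = k' * (1 + k * u r) by rw [hκ]; ring]
        simp [hk'0, hbad]
      by_cases h2 : r = y
      · subst h2
        simp only [hA, if_neg hxy.symm, if_true, add_zero, or_true, true_and, ne_eq, not_true,
          false_and, and_false, or_false]
        rw [show κ * u r + k = k * (1 + k' * u r) by rw [hκ]; ring, mul_eq_zero, ← hbad' r]
        simp [hk0]
      · simp [hA, h1, h2, hκ0]
    have hzB : ∀ r, B r = 0 ↔ ((r = x ∨ r = y) ∧ bad r) ∨ (r ≠ x ∧ r ≠ y ∧ u r = 0) := by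
      intro r
      by_cases h1 : r = x
      · subst h1
        simp only [hB, if_neg hxy, if_true, add_zero, true_or, true_and, ne_eq, not_true,
          false_and, or_false]
        rw [show κ * u r + k = k * (1 + k' * u r) by rw [hκ]; ring, mul_eq_zero, ← hbad' r]
        simp [hk0]
      by_cases h2 : r = y
      · subst h2
        simp only [hB, if_neg hxy.symm, if_true, add_zero, or_true, true_and, ne_eq, not_true,
          false_and, and_false, or_false]
        rw [show κ * u r + k' = k' * (1 + k * u r) by rw [hκ]; ring]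
        simp [hk'0, hbad]
      · simp [hB, h1, h2, hκ0]
    obtain ⟨t, ht1, htA, htB⟩ := exists_weight hι hcard (A := A) (B := B)
      (fun r => by rw [hzA, hzB]) (by
        obtain ⟨i, j, l, h1, h2, h3, h⟩ := hthree
        have hne : ∀ r ∈ [i, j, l], A r ≠ 0 := fun r hr e => by
          rcases (hzA r).mp e with ⟨h4, h5⟩ | ⟨-, -, h5⟩
          · exact (h r hr).2 h4 h5
          · exact (h r hr).1 h5
        exact ⟨i, j, l, h1, h2, h3, hne i (by simp), hne j (by simp), hne l (by simp)⟩)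
      (fun hall => hfour (fun r e => hall r ((hzA r).mpr (Or.inr ⟨fun h => hx (h ▸ e),
          fun h => hy (h ▸ e), e⟩)))
        (fun e => hall x ((hzA x).mpr (Or.inl ⟨Or.inl rfl, e⟩)))
        (fun e => hall y ((hzA y).mpr (Or.inl ⟨Or.inr rfl, e⟩))))
    exact htB (hstep x y t hxy hx hy ht1 htA)
  have hui : u i ≠ 0 := fun e => hi ((hu0 i).mp e)
  have huj : u j ≠ 0 := fun e => hj ((hu0 j).mp e)
  have hul : u l ≠ 0 := fun e => hl ((hu0 l).mp e)
  obtain ⟨m, hmi, hmj, hml⟩ := exists_fourth hι i j l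
  rw [sum4 hι hij hil hmi.symm hjl hmj.symm hml.symm] at hsum
  by_cases hm : u m = 0
  · -- three entries
    rw [hm, add_zero] at hsum
    have one : ∀ x y z, x ≠ y → x ≠ z → y ≠ z → u x ≠ 0 → u y ≠ 0 → u z ≠ 0 → ¬ bad x → ¬ bad y →
        False := fun x y z hxy hxz hyz hx hy hz bx by' => by
      refine fin x y hxy hx hy ⟨x, y, z, hxy, hxz, hyz, ?_⟩ fun h => absurd hm (h m)
      simp only [List.mem_cons, List.not_mem_nil, or_false, forall_eq_or_imp, forall_eq]
      exact ⟨⟨hx, fun _ => bx⟩, ⟨hy, fun _ => by'⟩, hz, fun h =>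
        absurd h (by simp [hxz.symm, hyz.symm])⟩
    have two : ∀ x y z, u x + u y + u z = 1 → u z ≠ 0 → bad x → ¬ bad y := fun x y z h hz bx by' => by
      obtain ⟨e1, h2⟩ := hhalf x bx
      obtain ⟨e2, -⟩ := hhalf y by'
      exact mul_ne_zero h2 hz (by linear_combination 2 * h - e1 - e2)
    by_cases bi : bad i
    · exact one j l i hjl hij.symm hil.symm huj hul hui (two i j l hsum hul bi)
        (two i l j (by linear_combination hsum) huj bi)
    by_cases bj : bad j
    · exact one i l j hil hij hjl.symm hui hul huj bi (two j l i (by linear_combination hsum) hui bj)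
    exact one i j l hij hil hjl hui huj hul bi bj
  -- four entries
  have huall : ∀ r, u r ≠ 0 := by
    intro r
    have h : r ∈ ({i, j, l, m} : Finset ι) := by
      rw [Finset.eq_univ_of_card ({i, j, l, m} : Finset ι) (by
        rw [hι, Finset.card_insert_of_notMem (by simp [hij, hil, hmi.symm]),
          Finset.card_insert_of_notMem (by simp [hjl, hmj.symm]), Finset.card_pair hml.symm])]
      exact Finset.mem_univ r
    simp only [Finset.mem_insert, Finset.mem_singleton] at h
    rcases h with rfl | rfl | rfl | rfl <;> assumption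
  have hsum4 : ∀ {p q r w : ι}, p ≠ q → p ≠ r → p ≠ w → q ≠ r → q ≠ w → r ≠ w →
      u p + u q + u r + u w = 1 := fun h1 h2 h3 h4 h5 h6 =>
    (sum4 hι h1 h2 h3 h4 h5 h6 u).symm.trans (row_sum g a)
  by_cases hsq : ∃ c d, u c ^ 2 ≠ u d ^ 2
  · obtain ⟨c, d, hcd⟩ := hsq
    have hne : c ≠ d := fun e => hcd (e ▸ rfl)
    obtain ⟨x, hxc, hxd, -⟩ := exists_fourth hι c d c
    obtain ⟨y, hyc, hyd, hyx⟩ := exists_fourth hι c d x
    have hs4 := hsum4 hne hxc.symm hyc.symm hxd.symm hyd.symm hyx.symm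
    refine fin x y hyx.symm (huall x) (huall y) ?_ fun _ _ _ => ⟨c, d, fun e => hcd ?_⟩
    · by_cases bx : bad x
      · by_cases by' : bad y
        · obtain ⟨e1, h2⟩ := hhalf x bx
          obtain ⟨e2, -⟩ := hhalf y by'
          refine absurd ?_ hcd
          have : u c + u d = 0 := (mul_eq_zero.mp
            (show (2 : F) * (u c + u d) = 0 by linear_combination 2 * hs4 - e1 - e2)).resolve_left h2
          linear_combination (u c - u d) * this
        · refine ⟨c, d, y, hne, hyc.symm, hyd.symm, ?_⟩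
          simp only [List.mem_cons, List.not_mem_nil, or_false, forall_eq_or_imp, forall_eq]
          exact ⟨⟨huall c, fun h => absurd h (by simp [hxc.symm, hyc.symm])⟩,
            ⟨huall d, fun h => absurd h (by simp [hxd.symm, hyd.symm])⟩, huall y, fun _ => by'⟩
      · refine ⟨c, d, x, hne, hxc.symm, hxd.symm, ?_⟩
        simp only [List.mem_cons, List.not_mem_nil, or_false, forall_eq_or_imp, forall_eq]
        exact ⟨⟨huall c, fun h => absurd h (by simp [hxc.symm, hyc.symm])⟩,
          ⟨huall d, fun h => absurd h (by simp [hxd.symm, hyd.symm])⟩, huall x, fun _ => bx⟩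
    · simp only [if_neg hxc.symm, if_neg hyc.symm, if_neg hxd.symm, if_neg hyd.symm, add_zero] at e
      exact mul_left_cancel₀ (pow_ne_zero 2 hκ0) (by linear_combination e)
  push Not at hsq
  by_cases hone : ∃ x, κ * u x ≠ 1
  · obtain ⟨x, hx1⟩ := hone
    obtain ⟨y, hyx, hy⟩ : ∃ y, y ≠ x ∧ (bad x → ¬ bad y) := by
      by_cases bx : bad x
      · by_contra hh
        push Not at hh
        obtain ⟨p, hp, -, -⟩ := exists_fourth hι x x x
        obtain ⟨q, hqx, hqp, -⟩ := exists_fourth hι x p x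
        obtain ⟨r, hrx, hrp, hrq⟩ := exists_fourth hι x p q
        obtain ⟨e1, h2⟩ := hhalf x bx
        obtain ⟨e2, -⟩ := hhalf p (hh p hp).2
        obtain ⟨e3, -⟩ := hhalf q (hh q hqx).2
        obtain ⟨e4, -⟩ := hhalf r (hh r hrx).2
        have h4 := hsum4 hp.symm hqx.symm hrx.symm hqp.symm hrp.symm hrq.symm
        exact h2 (by linear_combination 2 * h4 - e1 - e2 - e3 - e4)
      · obtain ⟨p, hp, -, -⟩ := exists_fourth hι x x x
        exact ⟨p, hp, fun h => absurd h bx⟩
    obtain ⟨c, hcx, hcy, -⟩ := exists_fourth hι x y x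
    obtain ⟨d, hdx, hdy, hdc⟩ := exists_fourth hι x y c
    refine fin x y hyx.symm (huall x) (huall y) ?_ fun _ bx _ => ⟨x, c, fun e => hx1 ?_⟩
    · by_cases bx : bad x
      · refine ⟨c, d, y, hdc.symm, hcy, hdy, ?_⟩
        simp only [List.mem_cons, List.not_mem_nil, or_false, forall_eq_or_imp, forall_eq]
        exact ⟨⟨huall c, fun h => absurd h (by simp [hcx, hcy])⟩,
          ⟨huall d, fun h => absurd h (by simp [hdx, hdy])⟩, huall y, fun _ => hy bx⟩
      · refine ⟨c, d, x, hdc.symm, hcx, hdx, ?_⟩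
        simp only [List.mem_cons, List.not_mem_nil, or_false, forall_eq_or_imp, forall_eq]
        exact ⟨⟨huall c, fun h => absurd h (by simp [hcx, hcy])⟩,
          ⟨huall d, fun h => absurd h (by simp [hdx, hdy])⟩, huall x, fun _ => bx⟩
    · simp only [if_neg hcx, if_neg hcy, if_neg hyx.symm, if_true, add_zero] at e
      have h := mul_left_cancel₀ hκ0 (show κ * (1 - κ * u x) = κ * 0 by
        linear_combination e - κ * u x * hrel - κ ^ 2 * hsq x c + (0 : F) * hκ)
      linear_combination -h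
  -- nine field elements, all entries equal
  push Not at hone
  have hκ4 : κ = 4 := by
    have h4 := hsum4 hij hil hmi.symm hjl hmj.symm hml.symm
    linear_combination -κ * h4 + hone i + hone j + hone l + hone m
  have hk2 : k = -2 := by
    have : (k + 2) * (k + 2) = 0 := by
      linear_combination k * hrel + hκ + (-1 - k) * hκ4
    linear_combination mul_self_eq_zero.mp this
  have hk'2 : k' = -2 := by linear_combination hrel - hκ4 - hk2
  have hnine := nine_of_shift h9 hk2
  have h3 : (3 : F) = 0 := three_zero_of_nine hnine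
  obtain ⟨I, hI⟩ : IsSquare (-1 : F) := FiniteField.isSquare_neg_one_iff.mpr (by omega)
  have h20 : (2 : F) ≠ 0 := fun e => one_ne_zero (by linear_combination h3 - e)
  set ζ := 1 + I with hζ
  have hζ0 : ζ ≠ 0 := fun e => h20 (by
    rw [hζ] at e
    linear_combination (1 - I) * e - hI)
  have hI0 : I ≠ 0 := fun e => one_ne_zero (by rw [e] at hI; linear_combination -hI)
  set w₁ : Fˣ := Units.mk0 (2 * ζ) (mul_ne_zero h20 hζ0)
  set w₂ : Fˣ := Units.mk0 I hI0
  set t : ι → Fˣ := fun r => if r = i then w₁ else if r = j then w₁ else if r = m then w₂ else 1 with ht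
  have e1 : t i = w₁ := by simp [ht]
  have e2 : t j = w₁ := by simp [ht, hij.symm]
  have e3 : t l = 1 := by simp [ht, hil.symm, hjl.symm, hml.symm]
  have e4 : t m = w₂ := by simp [ht, hmi, hmj]
  have h := hstep i j t hij hui huj (by
    rw [prod4 hι hij hil hmi.symm hjl hmj.symm hml.symm, e1, e2, e3, e4]
    refine Units.ext ?_
    simp only [Units.val_mul, Units.val_mk0, Units.val_one, w₁, w₂, hζ]
    linear_combination -(8 + 4 * I) * hI - 3 * h3) (by
    rw [sum4 hι hij hil hmi.symm hjl hmj.symm hml.symm, e1, e2, e3, e4]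
    simp only [if_true, if_neg hij, if_neg hij.symm, if_neg hil.symm, if_neg hjl.symm, if_neg hmi,
      if_neg hmj, hone, hk2, hk'2, Units.val_mk0, Units.val_one, w₁, w₂, hζ]
    linear_combination (-1 - I) * h3)
  rw [sum4 hι hij hil hmi.symm hjl hmj.symm hml.symm, e1, e2, e3, e4] at h
  simp only [if_true, if_neg hij, if_neg hij.symm, if_neg hil.symm, if_neg hjl.symm, if_neg hmi,
    if_neg hmj, hone, hk2, hk'2, Units.val_inv_eq_inv_val, Units.val_mk0, Units.val_one, inv_one,
    w₁, w₂] at h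
  field_simp at h
  rw [hζ] at h
  exact mul_ne_zero h20 hI0 (by linear_combination h + 2 * hI)

/-- A column with two entries has both values one half. -/
theorem false_of_two {g : GL ι F} (hg : g ∈ M) {a i j : ι} (hij : i ≠ j)
    (hi : (g : Matrix ι ι F) i a ≠ 0) (hj : (g : Matrix ι ι F) j a ≠ 0) :
    2 * (((g⁻¹ : GL ι F) : Matrix ι ι F) a i * (g : Matrix ι ι F) i a) = 1 ∧ shift s = -2 := by
  classical
  haveI : DecidableEq F := Classical.decEq F
  by_cases bi : 1 + shift s * (((g⁻¹ : GL ι F) : Matrix ι ι F) a i * (g : Matrix ι ι F) i a) = 0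
  · exact ⟨(bad_half hM hι hq hno hs hg bi).1, (bad_half hM hι hq hno hs hg bi).2.1⟩
  exfalso
  obtain ⟨c, hci, hcj, -⟩ := exists_fourth hι i j i
  obtain ⟨d, hdi, hdj, hdc⟩ := exists_fourth hι i j c
  have hc : (g : Matrix ι ι F) c a = 0 := by
    by_contra h; exact false_of_three hM hι hq hno hs h9 hg hij hci.symm hcj.symm hi hj h
  have hd : (g : Matrix ι ι F) d a = 0 := by
    by_contra h; exact false_of_three hM hι hq hno hs h9 hg hij hdi.symm hdj.symm hi hj h
  obtain ⟨t, ht, ht1⟩ := hM.exists_perm_mem (Equiv.swap j c) d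
  set P := pm (Equiv.swap j c) * dg t with hP
  set p := fun r => (g : Matrix ι ι F) r a with hp
  have hPr : (P : Matrix ι ι F) *ᵥ p = fun r => p (Equiv.swap j c r) := by
    rw [hP, Units.val_mul, ← mulVec_mulVec, dg_mulVec]
    funext r
    simp only [mulVec, dotProduct, pm_apply, ite_mul, one_mul, zero_mul]
    rw [Finset.sum_eq_single (Equiv.swap j c r)
      (fun x _ hx => if_neg fun e => hx (by rw [e, Equiv.swap_apply_self])) (by simp)]
    simp only [Equiv.swap_apply_self, if_true]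
    by_cases he : Equiv.swap j c r = d
    · rw [he, show p d = 0 from hd, mul_zero]
    · rw [ht1 _ he, Units.val_one, one_mul]
  have hxM : g * dg (SL4Geo89.ht a s) * g⁻¹ ∈ M :=
    mul_mem (mul_mem hg (hM.dg_mem (prod_ht hι a s))) (inv_mem hg)
  set g₃ := g * dg (SL4Geo89.ht a s) * g⁻¹ * (P * g) with hg₃
  have hg₃M : g₃ ∈ M := mul_mem hxM (mul_mem ht hg)
  have hφc : ((g⁻¹ : GL ι F) : Matrix ι ι F) a c = 0 := (zero_iff hM hι hq hno hs hg a c).mp hc
  have hφd : ((g⁻¹ : GL ι F) : Matrix ι ι F) a d = 0 := (zero_iff hM hι hq hno hs hg a d).mp hd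
  have hcol : ∀ r, (g₃ : Matrix ι ι F) r a = (s : F) * (p (Equiv.swap j c r) + shift s *
      (((g⁻¹ : GL ι F) : Matrix ι ι F) a i * p i) * p r) := by
    intro r
    have h2 := congrFun (mulVec_single_one (g₃ : Matrix ι ι F) a) r
    rw [Matrix.col_apply] at h2
    rw [← h2, hg₃, Units.val_mul, ← mulVec_mulVec, Units.val_mul P, ← mulVec_mulVec,
      mulVec_single_one, show (g : Matrix ι ι F).col a = p from rfl, hPr, conj_ht_mulVec g a s]
    have e : (((g⁻¹ : GL ι F) : Matrix ι ι F) *ᵥ fun r => p (Equiv.swap j c r)) a =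
        ((g⁻¹ : GL ι F) : Matrix ι ι F) a i * p i := by
      simp only [mulVec, dotProduct]
      rw [sum4 hι hij hci.symm hdi.symm hcj.symm hdj.symm hdc.symm]
      rw [Equiv.swap_apply_of_ne_of_ne hij (Ne.symm hci), Equiv.swap_apply_left, Equiv.swap_apply_right,
        Equiv.swap_apply_of_ne_of_ne hdj hdc, show p c = 0 from hc, hφc, hφd]
      ring
    rw [e]
    simp [hp]
  have hu : ((g⁻¹ : GL ι F) : Matrix ι ι F) a i * p i ≠ 0 :=
    mul_ne_zero (fun h => hi ((zero_iff hM hι hq hno hs hg a i).mpr h)) hi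
  refine false_of_three hM hι hq hno hs h9 hg₃M hij hci.symm hcj.symm (a := a) ?_ ?_ ?_
  · rw [hcol, Equiv.swap_apply_of_ne_of_ne hij (Ne.symm hci)]
    refine mul_ne_zero (Units.ne_zero _) fun h => bi ?_
    have : p i * (1 + shift s * (((g⁻¹ : GL ι F) : Matrix ι ι F) a i * p i)) = 0 := by
      linear_combination h
    exact (mul_eq_zero.mp this).resolve_left hi
  · rw [hcol, Equiv.swap_apply_left, show p c = 0 from hc, zero_add]
    exact mul_ne_zero (Units.ne_zero _) (mul_ne_zero (mul_ne_zero (shift_ne hs) hu) hj)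
  · rw [hcol, Equiv.swap_apply_right, show p c = 0 from hc, mul_zero, add_zero]
    exact mul_ne_zero (Units.ne_zero _) hj

/-- Every member is monomial. -/
theorem mon_of_noEl {g : GL ι F} (hg : g ∈ M) : Mon g := by
  classical
  haveI : DecidableEq F := Classical.decEq F
  by_contra hgn
  obtain ⟨a, i, i', hii, hi, hi'⟩ := exists_two_of_not_mon hgn
  obtain ⟨hu, hk⟩ := false_of_two hM hι hq hno hs h9 hg hii hi hi'
  have hnine := nine_of_shift h9 hk
  have h3 : (3 : F) = 0 := three_zero_of_nine hnine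
  have hs4 : (s : F) ^ 4 = -1 := by
    have h1 : ((s⁻¹ : Fˣ) : F) ^ 4 = -1 := by rw [shift] at hk; linear_combination hk
    have h2 : ((s⁻¹ : Fˣ) : F) ^ 4 * (s : F) ^ 4 = 1 := by
      rw [← mul_pow, ← Units.val_mul, inv_mul_cancel, Units.val_one, one_pow]
    rw [h1] at h2
    linear_combination -h2
  -- the row of `i`
  set G := (g : Matrix ι ι F) with hG
  set H := ((g⁻¹ : GL ι F) : Matrix ι ι F) with hH
  have hva : H a i ≠ 0 := fun h => hi ((zero_iff hM hι hq hno hs hg a i).mpr h)
  have hvsum : ∑ r, G i r * H r i = 1 := by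
    have h := congrFun (congrFun (Units.mul_inv g) i) i
    rwa [Matrix.mul_apply, one_apply_eq] at h
  obtain ⟨l, hla, hl⟩ : ∃ l, l ≠ a ∧ H l i ≠ 0 := by
    by_contra hh
    push Not at hh
    rw [Finset.sum_eq_single a (fun r _ hr => by rw [hh r hr, mul_zero]) (by simp)] at hvsum
    exact one_ne_zero (α := F) (by linear_combination hu - 2 * hvsum)
  obtain ⟨m, hma, hml, -⟩ := exists_fourth hι a l a
  obtain ⟨n, hna, hnl, hnm⟩ := exists_fourth hι a l m
  have hzero : ∀ r, r ≠ a → r ≠ l → H r i = 0 := fun r hra hrl => by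
    by_contra h
    exact false_of_three hM hι hq hno hs h9 (inv_mem hg) hla.symm hra.symm hrl.symm (a := i) hva hl h
  have hul : 2 * (G i l * H l i) = 1 := by
    rw [sum4 hι hla.symm hma.symm hna.symm hml.symm hnl.symm hnm.symm, hzero m hma hml,
      hzero n hna hnl] at hvsum
    linear_combination 2 * hvsum - hu
  set T := g * dg (pr a m s) * g⁻¹ with hT
  have hTM : T ∈ M := mul_mem (mul_mem hg (hM.dg_mem (prod_pr a m s))) (inv_mem hg)
  have hent : ∀ t : ι → Fˣ, ((g * dg t * g⁻¹ : GL ι F) : Matrix ι ι F) i i =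
      G i a * H a i * (t a : F) + G i l * H l i * (t l : F) := by
    intro t
    rw [Units.val_mul, Units.val_mul, dg_coe, Matrix.mul_apply,
      sum4 hι hla.symm hma.symm hna.symm hml.symm hnl.symm hnm.symm]
    simp only [mul_diagonal, ← hH, hzero m hma hml, hzero n hna hnl, ← hG]
    ring
  have e1 : (T : Matrix ι ι F) i i = G i a * H a i * (s : F) + G i l * H l i := by
    rw [hT, hent, pr_left hma.symm, pr_other hla hml.symm, Units.val_one, mul_one]
  have eT : T⁻¹ = g * dg (pr a m s⁻¹) * g⁻¹ := by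
    rw [hT, _root_.mul_inv_rev, _root_.mul_inv_rev, inv_inv, mul_assoc]
    congr 2
    refine Units.ext ?_
    show ((dg (pr a m s))⁻¹ : GL ι F).1 = _
    rw [dg_inv_coe, dg_coe]
    congr 1
    funext r
    simp [pr, Function.update_apply]
    split_ifs <;> simp [mul_comm]
  have e2 : ((T⁻¹ : GL ι F) : Matrix ι ι F) i i =
      G i a * H a i * ((s⁻¹ : Fˣ) : F) + G i l * H l i := by
    rw [eT, hent, pr_left hma.symm, pr_other hla hml.symm, Units.val_one, mul_one]
  set S := (s : F)
  set R := ((s⁻¹ : Fˣ) : F)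
  have hRS : R * S = 1 := by rw [← Units.val_mul, inv_mul_cancel, Units.val_one]
  have hW : ((T⁻¹ : GL ι F) : Matrix ι ι F) i i * (T : Matrix ι ι F) i i = S + R + 2 := by
    have hA : G i a * H a i = -1 := by linear_combination (G i a * H a i) * h3 - hu
    have hB : G i l * H l i = -1 := by linear_combination (G i l * H l i) * h3 - hul
    rw [e1, e2, hA, hB]
    linear_combination hRS
  have hy : (S + R) ^ 2 = 2 := by
    have h4 : R ^ 2 + S ^ 2 = 0 := by
      linear_combination R ^ 2 * hs4 + (-S ^ 2 * (R * S + 1)) * hRS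
    linear_combination h4 + 2 * hRS
  have h20 : (2 : F) ≠ 0 := fun e => one_ne_zero (by linear_combination h3 - e)
  have hcases : ((T⁻¹ : GL ι F) : Matrix ι ι F) i i * (T : Matrix ι ι F) i i = 0 ∨
      ((T⁻¹ : GL ι F) : Matrix ι ι F) i i * (T : Matrix ι ι F) i i = 1 ∨
      2 * (((T⁻¹ : GL ι F) : Matrix ι ι F) i i * (T : Matrix ι ι F) i i) = 1 := by
    by_cases h : (T : Matrix ι ι F) i i = 0
    · exact Or.inl (by rw [h, mul_zero])
    by_cases ho : ∃ r, r ≠ i ∧ (T : Matrix ι ι F) r i ≠ 0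
    · obtain ⟨r, hr, hr0⟩ := ho
      exact Or.inr (Or.inr (false_of_two hM hι hq hno hs h9 hTM hr.symm h hr0).1)
    · push Not at ho
      refine Or.inr (Or.inl ?_)
      rw [← row_sum T i, Finset.sum_eq_single i (fun r _ hr => by rw [ho r hr, mul_zero]) (by simp)]
  rw [hW] at hcases
  rcases hcases with h | h | h
  · exact h20 (by linear_combination hy - (S + R - 2) * h)
  · exact one_ne_zero (α := F) (by linear_combination (S + R - 1) * h - hy)
  · exact one_ne_zero (α := F) (by linear_combination 4 * hy - (2 * (S + R) - 3) * h)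

end Core

/-- Clause on four independent lines: `q ≥ 7`. -/
theorem lines_maximal {F : Type*} [Field F] [Fintype F] :
    7 ≤ Fintype.card F → ∀ D : Fin 4 → Submodule F (Fin 4 → F), Cfsg.Geo.IsMDecomposition 1 D → Cfsg.Geo.IsMaximalIn (Cfsg.Geo.specialLinear (Fin 4) F) (Cfsg.Geo.decompositionStabilizer D ⊓ Cfsg.Geo.specialLinear (Fin 4) F) := by
  classical
  intro hq7 D hD
  obtain ⟨Φ, hΦ⟩ := Cfsg.Agent.S5635.exists_coords hD
  set Ψ := Φ.trans pairCoords with hΨdef
  have hΨ : ∀ i x, x ∈ D i ↔ ∀ y : Fin 1 × Fin 4, y.2 ≠ i → Ψ x y = 0 := fun i x =>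
    (hΦ i x).trans ⟨fun h y hy => congrFun (h y.2 hy) y.1, fun h j hj => funext fun a => h (a, j) hj⟩
  set e := chart Ψ with he
  have hmem := map_mem_iff Ψ hD hΨ
  refine isMaximalIn_of inf_le_right ?_ ?_
  · set y₀ : Fin 1 × Fin 4 := (0, 0)
    set y₁ : Fin 1 × Fin 4 := (0, 1)
    have hne : y₀ ≠ y₁ := by simp [y₀, y₁]
    refine ⟨e.symm (el y₀ y₁ 1), ?_, fun h => ?_⟩
    · show Matrix.GeneralLinearGroup.det _ = 1
      rw [← det_chart Ψ, ← he, MulEquiv.apply_symm_apply]
      exact det_tv _ _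
    · obtain ⟨σ, hσ⟩ := (hmem _).mp h.1
      rw [← he, MulEquiv.apply_symm_apply, el_coe hne] at hσ
      have e1 : y₀.2 = σ y₁.2 := by
        by_contra hh
        have := hσ y₀ y₁ hh
        simp [transvection, hne] at this
      have e2 : y₁.2 = σ y₁.2 := by
        by_contra hh
        have := hσ y₁ y₁ hh
        simp [transvection, hne] at this
      exact hne (by simpa [y₀, y₁] using e1.trans e2.symm)
  · intro M hHM hMK g hg hgH
    set M' := M.map e.toMonoidHom with hM'
    have hmon : HasMon M' := fun k hk hdet => by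
      obtain ⟨σ, hσ⟩ := hk
      refine ⟨e.symm k, hHM ⟨(hmem _).mpr ?_, ?_⟩, e.apply_symm_apply k⟩
      · rw [← he, MulEquiv.apply_symm_apply]
        exact ⟨fun l => (σ (0, l)).2, fun x y hxy => hσ x y fun e => hxy
          (by rw [e, show y = (0, y.2) from Prod.ext (Subsingleton.elim _ _) rfl])⟩
      show Matrix.GeneralLinearGroup.det _ = 1
      rw [← det_chart Ψ, ← he, MulEquiv.apply_symm_apply, hdet]
    have hι : Fintype.card (Fin 1 × Fin 4) = 4 := by simp
    have hq : 6 ≤ Nat.card F := by rw [Nat.card_eq_fintype_card]; omega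
    have hle : Geo.specialLinear (Fin 1 × Fin 4) F ≤ M' := by
      by_cases hno : NoEl M'
      · exfalso
        obtain ⟨s, hs⟩ := IsCyclic.exists_generator (α := Fˣ)
        have ho : orderOf s = Fintype.card F - 1 := by
          rw [orderOf_eq_card_of_forall_mem_zpowers hs, Nat.card_eq_fintype_card, Fintype.card_units]
        have h4 : s ^ 4 ≠ 1 := fun h => by
          have := Nat.le_of_dvd (by norm_num) (orderOf_dvd_of_pow_eq_one h)
          omega
        have h9 : s ^ 4 = -1 → Fintype.card F = 9 := fun h => by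
          have h8 : s ^ 8 = 1 := by rw [show 8 = 4 * 2 from rfl, pow_mul, h, neg_one_sq]
          have h1 := orderOf_dvd_of_pow_eq_one h8
          have := Nat.le_of_dvd (by norm_num) h1
          rw [ho] at h1 this
          have hc : Fintype.card F - 1 = 6 ∨ Fintype.card F - 1 = 7 ∨ Fintype.card F - 1 = 8 := by omega
          rcases hc with hc | hc | hc
          · rw [hc] at h1; norm_num at h1
          · rw [hc] at h1; norm_num at h1
          · omega
        refine hgH ⟨(hmem g).mpr ?_, hMK hg⟩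
        obtain ⟨σ, hσ⟩ := mon_of_noEl hmon hι hq hno h4 h9 (g := e g) ⟨g, hg, rfl⟩
        exact ⟨fun l => (σ (0, l)).2, fun x y hxy => hσ x y fun e => hxy
          (by rw [e, show y = (0, y.2) from Prod.ext (Subsingleton.elim _ _) rfl])⟩
      · unfold NoEl at hno
        push Not at hno
        obtain ⟨i, j, c, hij, hc, hm⟩ := hno
        exact Frame.specialLinear_le_of_el_mem (hmon.el_all (by omega) hij hc hm)
    intro k hk
    obtain ⟨k', hk', hkk⟩ := hle (show e k ∈ Geo.specialLinear (Fin 1 × Fin 4) F from by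
      show Matrix.GeneralLinearGroup.det (chart Ψ k) = 1
      rw [det_chart]; exact hk)
    exact e.injective hkk ▸ hk'

end Cfsg.Agent.SL4Geo89
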