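import Cfsg.Agent.MaxSub.Frame.Basic

/-!
A subgroup fixing a point and inducing all elementary matrices on the quotient space, by elements which
are not transvections, contains all transvections centred at that point (helper89).
-/

set_option autoImplicit false

namespace Cfsg.Agent.SL4Geo89

open Matrix Cfsg.Agent.MaxSub

variable {F : Type*} [Field F]

local notation "e₀" => (Pi.single (0 : Fin 4) (1 : F) : Fin 4 → F)

/-- `x` induces `1 + c E i j` modulo the first coordinate vector, with data `θ`. -/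
def IsLift (x : GL (Fin 4) F) (i j : Fin 4) (c : F) (θ : Fin 4 → F) : Prop :=
  θ 0 = 0 ∧ ∀ y, (x : Matrix (Fin 4) (Fin 4) F) *ᵥ y =
    y + (c * y j) • Pi.single i 1 + (θ ⬝ᵥ y) • e₀

theorem IsLift.fix {x : GL (Fin 4) F} {i j : Fin 4} {c : F} {θ : Fin 4 → F} (hj : j ≠ 0)
    (h : IsLift x i j c θ) : (x : Matrix (Fin 4) (Fin 4) F) *ᵥ e₀ = e₀ := by
  rw [h.2, dotProduct_single, h.1]
  simp [Pi.single_eq_of_ne hj]

variable {L : Subgroup (GL (Fin 4) F)}

theorem eq_of_mod (hK : ∀ θ ∈ dualSet L e₀, θ = 0) {A B : GL (Fin 4) F} (hA : A ∈ L) (hB : B ∈ L)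
    (hB0 : (B : Matrix (Fin 4) (Fin 4) F) *ᵥ e₀ = e₀) (f : Fin 4 → F) (hf : f 0 = 0)
    (h : ∀ y, (A : Matrix (Fin 4) (Fin 4) F) *ᵥ y =
      (B : Matrix (Fin 4) (Fin 4) F) *ᵥ y + (f ⬝ᵥ y) • e₀) : f = 0 := by
  set θ := f ᵥ* ((B⁻¹ : GL (Fin 4) F) : Matrix (Fin 4) (Fin 4) F) with hθ
  have h0 : θ ⬝ᵥ e₀ = 0 := by
    rw [hθ, ← hB0, vecMul_inv_dotProduct, dotProduct_single, hf, zero_mul]
  have hT : tv e₀ θ = A * B⁻¹ := by
    refine gl_ext fun y => ?_
    rw [tv_mulVec h0, Units.val_mul, ← mulVec_mulVec, h, mulVec_inv_mulVec, hθ, ← dotProduct_mulVec]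
  have h1 := hK θ ⟨h0, hT ▸ mul_mem hA (inv_mem hB)⟩
  funext r
  have h2 := vecMul_inv_dotProduct B f (Pi.single r (1 : F))
  rw [← hθ, h1, zero_dotProduct, dotProduct_single, mul_one] at h2
  exact h2.symm

/-- The elements of `L` fixing `e₀` cannot all be determined by their quotient action. -/
theorem exists_kernel (h2 : (2 : F) ≠ 0)
    (hlift : ∀ i j : Fin 4, i ≠ 0 → j ≠ 0 → i ≠ j → ∀ c : F, ∃ x ∈ L, ∃ θ, IsLift x i j c θ ∧
      (c ≠ 0 → ∃ k, k ≠ j ∧ θ k ≠ 0)) : ∃ θ ∈ dualSet L e₀, θ ≠ 0 := by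
  by_contra hno
  have hK : ∀ θ ∈ dualSet L e₀, θ = 0 := fun θ h => by
    by_contra h'; exact hno ⟨θ, h, h'⟩
  obtain ⟨X, hX, α, hXl, -⟩ := hlift 3 2 (by decide) (by decide) (by decide) 1
  obtain ⟨Y, hY, β, hYl, hβ⟩ := hlift 2 1 (by decide) (by decide) (by decide) 1
  obtain ⟨Y', hY', β', hY'l, -⟩ := hlift 2 3 (by decide) (by decide) (by decide) 1
  obtain ⟨Z, hZ, ζ, hZl, -⟩ := hlift 3 1 (by decide) (by decide) (by decide) 1
  have r1 : β 2 = 0 := by
    have h := eq_of_mod hK (mul_mem hY hY') (mul_mem hY' hY)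
      (by rw [Units.val_mul, ← mulVec_mulVec, hYl.fix (by decide), hY'l.fix (by decide)])
      (β 2 • Pi.single 3 1 - β' 2 • Pi.single 1 1) (by simp) fun y => by
        simp only [Units.val_mul, ← mulVec_mulVec, hYl.2, hY'l.2]
        simp only [dotProduct_add, dotProduct_smul, dotProduct_single, smul_eq_mul, hYl.1, hY'l.1,
          Pi.add_apply, Pi.smul_apply, sub_dotProduct, smul_dotProduct, single_dotProduct]
        simp
        module
    simpa using congrFun h 3
  have r1' : ζ 3 = 0 := by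
    have h := eq_of_mod hK (mul_mem hZ hX) (mul_mem hX hZ)
      (by rw [Units.val_mul, ← mulVec_mulVec, hZl.fix (by decide), hXl.fix (by decide)])
      (ζ 3 • Pi.single 2 1 - α 3 • Pi.single 1 1) (by simp) fun y => by
        simp only [Units.val_mul, ← mulVec_mulVec, hXl.2, hZl.2]
        simp only [dotProduct_add, dotProduct_smul, dotProduct_single, smul_eq_mul, hXl.1, hZl.1,
          Pi.add_apply, Pi.smul_apply, sub_dotProduct, smul_dotProduct, single_dotProduct]
        simp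
        module
    simpa using congrFun h 2
  have r2 : ζ 2 = β 3 := by
    have h := eq_of_mod hK (mul_mem hZ hY) (mul_mem hY hZ)
      (by rw [Units.val_mul, ← mulVec_mulVec, hZl.fix (by decide), hYl.fix (by decide)])
      ((ζ 2 - β 3) • Pi.single 1 1) (by simp) fun y => by
        simp only [Units.val_mul, ← mulVec_mulVec, hYl.2, hZl.2]
        simp only [dotProduct_add, dotProduct_smul, dotProduct_single, smul_eq_mul, hYl.1, hZl.1,
          Pi.add_apply, Pi.smul_apply, smul_dotProduct, single_dotProduct]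
        simp
        module
    have h' := congrFun h 1
    simp at h'
    exact sub_eq_zero.mp h'
  have r3 : β 3 + ζ 2 + ζ 3 = 0 := by
    have h := eq_of_mod hK (mul_mem hX hY) (mul_mem hZ (mul_mem hY hX))
      (by rw [Units.val_mul, ← mulVec_mulVec, Units.val_mul, ← mulVec_mulVec, hXl.fix (by decide),
        hYl.fix (by decide), hZl.fix (by decide)])
      ((α 2 - ζ 2) • Pi.single 1 1 - (β 3 + ζ 3) • Pi.single 2 1 - ζ)
      (by simp [hZl.1]) fun y => by
        simp only [Units.val_mul, ← mulVec_mulVec, hXl.2, hYl.2, hZl.2]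
        simp only [dotProduct_add, dotProduct_smul, dotProduct_single, smul_eq_mul, hXl.1, hYl.1,
          hZl.1, Pi.add_apply, Pi.smul_apply, sub_dotProduct, smul_dotProduct, single_dotProduct]
        simp
        module
    have h' := congrFun h 2
    simp at h'
    linear_combination -h'
  obtain ⟨k, hk, hk'⟩ := hβ one_ne_zero
  have h3 : β 3 = 0 := by
    have : (2 : F) * β 3 = 0 := by linear_combination r3 - r2 - r1'
    exact (mul_eq_zero.mp this).resolve_left h2
  fin_cases k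
  · exact hk' hYl.1
  · exact hk rfl
  · exact hk' r1
  · exact hk' h3

/-- All transvections centred at `e₀`. -/
theorem full_of_lifts (h2 : (2 : F) ≠ 0)
    (hlift : ∀ i j : Fin 4, i ≠ 0 → j ≠ 0 → i ≠ j → ∀ c : F, ∃ x ∈ L, ∃ θ, IsLift x i j c θ ∧
      (c ≠ 0 → ∃ k, k ≠ j ∧ θ k ≠ 0)) : ∀ θ : Fin 4 → F, θ 0 = 0 → θ ∈ dualSet L e₀ := by
  obtain ⟨θ₁, hθ₁, hne⟩ := exists_kernel h2 hlift
  have spread : ∀ θ ∈ dualSet L e₀, ∀ i j : Fin 4, i ≠ 0 → j ≠ 0 → i ≠ j → θ i ≠ 0 → ∀ r : F,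
      (Pi.single j r : Fin 4 → F) ∈ dualSet L e₀ := by
    intro θ hθ i j hi hj hij hne r
    obtain ⟨x, hx, α, hl, -⟩ := hlift i j hi hj hij (r / θ i)
    have h0 : θ 0 = 0 := by simpa using hθ.1
    have he : ((x⁻¹ : GL (Fin 4) F) : Matrix (Fin 4) (Fin 4) F) *ᵥ e₀ = e₀ := by
      conv_lhs => rw [← hl.fix hj]
      exact inv_mulVec_mulVec x _
    have h := conj_mem_dualSet (inv_mem hx) hθ
    rw [inv_inv, he] at h
    have e : θ ᵥ* (x : Matrix (Fin 4) (Fin 4) F) - θ = Pi.single j r := by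
      funext k
      have h1 : (θ ᵥ* (x : Matrix (Fin 4) (Fin 4) F)) k = θ ⬝ᵥ ((x : Matrix (Fin 4) (Fin 4) F) *ᵥ Pi.single k 1) := by
        rw [dotProduct_mulVec, dotProduct_single, mul_one]
      rw [Pi.sub_apply, h1, hl.2]
      by_cases hk : k = j
      · subst hk
        simp [dotProduct_add, h0, hne]
      · simp [dotProduct_add, h0, Ne.symm hk, hk]
    exact e ▸ sub_mem h hθ
  have hsingle : ∀ j : Fin 4, j ≠ 0 → ∀ r : F, (Pi.single j r : Fin 4 → F) ∈ dualSet L e₀ := by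
    obtain ⟨i, hi⟩ := Function.ne_iff.mp hne
    have hi0 : i ≠ 0 := fun e => hi (by simpa [e] using hθ₁.1)
    intro j hj r
    by_cases hij : i = j
    · obtain ⟨k, hk0, hkj⟩ : ∃ k : Fin 4, k ≠ 0 ∧ k ≠ j := by
        fin_cases j <;> first | exact absurd rfl hj | exact ⟨3, by decide, by decide⟩ |
          exact ⟨2, by decide, by decide⟩
      exact spread _ (spread θ₁ hθ₁ i k hi0 hk0 (hij ▸ hkj.symm) hi 1) k j hk0 hj hkj (by simp) r
    · exact spread θ₁ hθ₁ i j hi0 hj hij hi r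
  intro θ hθ
  have e : θ = Pi.single 1 (θ 1) + Pi.single 2 (θ 2) + Pi.single 3 (θ 3) := by
    funext k; fin_cases k <;> simp [hθ]
  rw [e]
  exact add_mem (add_mem (hsingle 1 (by decide) _) (hsingle 2 (by decide) _)) (hsingle 3 (by decide) _)

end Cfsg.Agent.SL4Geo89
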