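import Cfsg.Agent.GeomMax32.Similitude

/-!
Facts on non-degenerate quadratic forms in four variables (helper89).
-/

set_option autoImplicit false
set_option linter.unusedSectionVars false

namespace Cfsg.Agent.SL4Geo89

open Matrix QuadraticMap Cfsg.Agent.MaxSub Cfsg.Agent.UnitaryOrthogonal Cfsg.Agent.OrthStab

variable {F : Type*} [Field F] [Finite F]


theorem exists_indep {O : Set (Fin 4 → F)} : ∀ k : ℕ, k ≤ Module.finrank F (Submodule.span F O) →
    ∃ f : Fin k → (Fin 4 → F), (∀ i, f i ∈ O) ∧ LinearIndependent F f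
  | 0, _ => ⟨Fin.elim0, fun i => i.elim0, linearIndependent_empty_type⟩
  | k + 1, h => by
    obtain ⟨f, hf, hli⟩ := exists_indep (O := O) k (by omega)
    obtain ⟨x, hx, hxn⟩ : ∃ x ∈ O, x ∉ Submodule.span F (Set.range f) := by
      by_contra hh
      push Not at hh
      have h1 := Submodule.finrank_mono (Submodule.span_le.mpr hh)
      rw [finrank_span_eq_card hli, Fintype.card_fin] at h1
      omega
    refine ⟨Fin.snoc f x, fun i => ?_, linearIndependent_finSnoc.mpr ⟨hli, hxn⟩⟩
    refine Fin.lastCases ?_ (fun i => ?_) i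
    · simpa using hx
    · simpa using hf i

variable {Q : QuadraticForm F (Fin 4 → F)} (hQ : PolarND Q)

include hQ in
theorem nd : Geo.IsNondegenerateForm (polar (⇑Q)) := fun v hv => by
  obtain ⟨z, hz, -⟩ := exists_dual_vec (S := ⊥) hQ (e := v) (by simpa using hv)
  exact ⟨⟨z, by rw [hz]; exact one_ne_zero⟩, z, by rw [polar_comm, hz]; exact one_ne_zero⟩

include hQ in
theorem rep_inj {x y : (Fin 4 → F)} (h : rep (polar (⇑Q)) x = rep (polar (⇑Q)) y) : x = y := by
  by_contra hne
  obtain ⟨z, hz⟩ := (nd hQ (x - y) (sub_ne_zero.mpr hne)).1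
  refine hz ?_
  rw [polar_sub_right, ← rep_dot (GeomMax32.Similitude.bil Q),
    ← rep_dot (GeomMax32.Similitude.bil Q) (f := polar (⇑Q)) y, h, sub_self]

omit hQ in
/-- The part of a vector orthogonal to a hyperbolic pair. -/
theorem proj_perp {u v : (Fin 4 → F)} (hu : Q u = 0) (hv : Q v = 0) (huv : polar (⇑Q) u v = 1) (x : (Fin 4 → F)) :
    polar (⇑Q) (x - polar (⇑Q) x v • u - polar (⇑Q) x u • v) u = 0 ∧
      polar (⇑Q) (x - polar (⇑Q) x v • u - polar (⇑Q) x u • v) v = 0 := by
  have hvu : polar (⇑Q) v u = 1 := by rw [polar_comm]; exact huv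
  simp [polar_sub_left, polar_smul_left, polar_self_eq, hu, hv, huv, hvu]

include hQ in
theorem eq_zero_of_perp {u v w : (Fin 4 → F)} (hu : Q u = 0) (hv : Q v = 0) (huv : polar (⇑Q) u v = 1)
    (hwu : polar (⇑Q) w u = 0) (hwv : polar (⇑Q) w v = 0)
    (h : ∀ z, polar (⇑Q) z u = 0 → polar (⇑Q) z v = 0 → polar (⇑Q) w z = 0) : w = 0 := by
  refine hQ w fun x => ?_
  have h' := h _ (proj_perp hu hv huv x).1 (proj_perp hu hv huv x).2
  simpa [polar_sub_right, polar_smul_right, hwu, hwv] using h'

include hQ in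
theorem exists_perp_ne {u v : (Fin 4 → F)} (hu : Q u = 0) (hv : Q v = 0) (huv : polar (⇑Q) u v = 1) :
    ∃ w, polar (⇑Q) w u = 0 ∧ polar (⇑Q) w v = 0 ∧ Q w ≠ 0 := by
  by_contra hh
  push Not at hh
  have hall : ∀ x, x = polar (⇑Q) x v • u + polar (⇑Q) x u • v := by
    intro x
    obtain ⟨h1, h2⟩ := proj_perp hu hv huv x
    have h0 := eq_zero_of_perp hQ hu hv huv h1 h2 fun z hz1 hz2 => by
      have := hh _ (show polar (⇑Q) (x - polar (⇑Q) x v • u - polar (⇑Q) x u • v + z) u = 0 by
        rw [polar_add_left, h1, hz1, add_zero]) (by rw [polar_add_left, h2, hz2, add_zero])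
      rwa [form_add, hh _ h1 h2, hh _ hz1 hz2, zero_add, zero_add] at this
    rw [sub_sub, sub_eq_zero] at h0
    exact h0
  have htop : (⊤ : Submodule F (Fin 4 → F)) ≤ Submodule.span F ({u, v} : Set (Fin 4 → F)) := fun x _ =>
    Submodule.mem_span_pair.mpr ⟨_, _, (hall x).symm⟩
  have h1 := Submodule.finrank_mono htop
  classical
  have h5 := finrank_span_le_card (R := F) ({u, v} : Set (Fin 4 → F))
  have h6 : ({u, v} : Set (Fin 4 → F)).toFinset.card ≤ 2 := by
    rw [Set.toFinset_insert, Set.toFinset_singleton]; exact Finset.card_le_two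
  rw [finrank_top] at h1
  simp at h1
  omega

include hQ in
theorem exists_pair : ∃ u v : (Fin 4 → F), Q u = 0 ∧ Q v = 0 ∧ polar (⇑Q) u v = 1 ∧ u ≠ 0 := by
  obtain ⟨u, -, hu0, hu⟩ := exists_singular_mem (Q := Q) ⊤ (by rw [finrank_top]; simp)
  obtain ⟨v, hv, huv, -⟩ := exists_partner (S := ⊥) hQ (by simpa using hu0) hu fun x hx => by
    rw [(Submodule.mem_bot F).mp hx, polar_zero_right]
  exact ⟨u, v, hu, hv, huv, hu0⟩

include hQ in
/-- The singular vectors span. -/
theorem span_singular : Submodule.span F {x : (Fin 4 → F) | Q x = 0} = ⊤ := by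
  obtain ⟨u, v, hu, hv, huv, -⟩ := exists_pair hQ
  have hvu : polar (⇑Q) v u = 1 := by rw [polar_comm]; exact huv
  have key : ∀ x, polar (⇑Q) x u ≠ 0 → x ∈ Submodule.span F {x : (Fin 4 → F) | Q x = 0} := by
    intro x hx
    have h : Q (x + (-Q x / polar (⇑Q) x u) • u) = 0 := by
      rw [form_add, form_smul, hu, polar_smul_right, smul_eq_mul, div_mul_cancel₀ _ hx]; ring
    have := sub_mem (Submodule.subset_span (R := F) (s := {x : (Fin 4 → F) | Q x = 0}) h)
      (Submodule.smul_mem _ (-Q x / polar (⇑Q) x u) (Submodule.subset_span (s := {x : (Fin 4 → F) | Q x = 0}) hu))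
    simpa using this
  refine eq_top_iff.mpr fun x _ => ?_
  by_cases hx : polar (⇑Q) x u = 0
  · have := sub_mem (key (x + v) (by rw [polar_add_left, hx, hvu, zero_add]; exact one_ne_zero))
      (Submodule.subset_span (R := F) (s := {x : (Fin 4 → F) | Q x = 0}) hv)
    simpa using this
  · exact key x hx

include hQ in
/-- A singular vector non-orthogonal to two given ones. -/
theorem exists_common {a b : (Fin 4 → F)} (ha : Q a = 0) (ha0 : a ≠ 0) (hb : Q b = 0) (hb0 : b ≠ 0) :
    ∃ u, Q u = 0 ∧ polar (⇑Q) u a ≠ 0 ∧ polar (⇑Q) u b ≠ 0 := by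
  by_cases hab : polar (⇑Q) a b = 0
  · obtain ⟨d₁, h1, -⟩ := exists_dual_vec (S := ⊥) hQ (e := a) (by simpa using ha0)
    obtain ⟨d₂, h2, -⟩ := exists_dual_vec (S := ⊥) hQ (e := b) (by simpa using hb0)
    obtain ⟨d, hda, hdb⟩ : ∃ d, polar (⇑Q) d a ≠ 0 ∧ polar (⇑Q) d b ≠ 0 := by
      by_cases h3 : polar (⇑Q) d₁ b = 0
      · by_cases h4 : polar (⇑Q) d₂ a = 0
        · exact ⟨d₁ + d₂, by rw [polar_add_left, h1, h4, add_zero]; exact one_ne_zero,
            by rw [polar_add_left, h2, h3, zero_add]; exact one_ne_zero⟩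
        · exact ⟨d₂, h4, by rw [h2]; exact one_ne_zero⟩
      · exact ⟨d₁, by rw [h1]; exact one_ne_zero, h3⟩
    refine ⟨d + (-Q d / polar (⇑Q) d a) • a, ?_, ?_, ?_⟩
    · rw [form_add, form_smul, ha, polar_smul_right, smul_eq_mul, div_mul_cancel₀ _ hda]; ring
    · rwa [polar_add_left, polar_smul_left, polar_self_eq, ha, mul_zero, smul_zero, add_zero]
    · rwa [polar_add_left, polar_smul_left, hab, smul_zero, add_zero]
  · set β := polar (⇑Q) a b with hβ
    have hb' : Q (β⁻¹ • b) = 0 := by rw [form_smul, hb, mul_zero]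
    have hab' : polar (⇑Q) a (β⁻¹ • b) = 1 := by
      rw [polar_smul_right, smul_eq_mul, ← hβ, inv_mul_cancel₀ hab]
    obtain ⟨w, hwa, hwb, hw⟩ := exists_perp_ne hQ ha hb' hab'
    have hwb' : polar (⇑Q) w b = 0 := by
      rw [polar_smul_right, smul_eq_mul] at hwb
      exact (mul_eq_zero.mp hwb).resolve_left (inv_ne_zero hab)
    have hba : polar (⇑Q) b a = β := by rw [polar_comm]
    refine ⟨a + (-Q w / β) • b + w, ?_, ?_, ?_⟩
    · rw [form_add, form_add, form_smul, ha, hb, polar_smul_right, ← hβ, polar_add_left,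
        polar_smul_left, polar_comm (⇑Q) a w, hwa, polar_comm (⇑Q) b w, hwb']
      simp [div_mul_cancel₀ _ hab]
    · rw [polar_add_left, polar_add_left, polar_smul_left, polar_self_eq, ha, hba, hwa]
      simp [div_mul_cancel₀ _ hab, hw]
    · rw [polar_add_left, polar_add_left, polar_smul_left, polar_self_eq, hb, ← hβ, hwb']
      simp [hab]

include hQ in
/-- A map preserving the singular vectors is a similitude. -/
theorem similar_of_singular (h2 : (2 : F) ≠ 0) {g : GL (Fin 4) F}
    (h : ∀ x, Q x = 0 → Q ((g : Matrix (Fin 4) (Fin 4) F) *ᵥ x) = 0) :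
    g ∈ Geo.quadSimilarityGroup (⇑Q) := by
  obtain ⟨u, v, hu, hv, huv, -⟩ := exists_pair hQ
  set G := (g : Matrix (Fin 4) (Fin 4) F) with hG
  set P := fun x y => polar (⇑Q) (G *ᵥ x) (G *ᵥ y) with hP
  set μ := P u v with hμ
  -- the complement
  have hbase : ∀ w, polar (⇑Q) w u = 0 → polar (⇑Q) w v = 0 →
      P u w = Q w * P v w ∧ Q (G *ᵥ w) = μ * Q w := by
    intro w hwu hwv
    have hr : ∀ r : F, r * P u w + r * r * Q (G *ᵥ w) - r * r * Q w * μ - r * r * r * Q w * P v w = 0 := by
      intro r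
      have h0 : Q (u + (-(r * r * Q w)) • v + r • w) = 0 := by
        rw [form_add, form_add, form_smul, form_smul, hu, hv, polar_smul_right, huv, polar_smul_right,
          polar_add_left, polar_smul_left, polar_comm (⇑Q) u w, hwu, polar_comm (⇑Q) v w, hwv]
        simp
      have h1 := h _ h0
      simp only [mulVec_add, mulVec_smul, form_add, form_smul, h u hu, h v hv, polar_smul_right,
        polar_add_left, polar_smul_left, smul_eq_mul, hμ, hP] at h1 ⊢
      linear_combination h1
    constructor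
    · refine mul_left_cancel₀ h2 ?_
      linear_combination hr 1 - hr (-1)
    · refine mul_left_cancel₀ h2 ?_
      linear_combination hr 1 + hr (-1)
  -- the functional
  have hm : ∀ w, polar (⇑Q) w u = 0 → polar (⇑Q) w v = 0 → P v w = 0 := by
    have hid : ∀ w z, polar (⇑Q) w u = 0 → polar (⇑Q) w v = 0 → polar (⇑Q) z u = 0 →
        polar (⇑Q) z v = 0 → Q z * P v w + polar (⇑Q) w z * P v z = 0 := by
      intro w z hwu hwv hzu hzv
      have e1 := (hbase (w + z) (by rw [polar_add_left, hwu, hzu, add_zero])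
        (by rw [polar_add_left, hwv, hzv, add_zero])).1
      have e2 := (hbase (w - z) (by rw [polar_sub_left, hwu, hzu, sub_zero])
        (by rw [polar_sub_left, hwv, hzv, sub_zero])).1
      have e3 := (hbase w hwu hwv).1
      simp only [hP, mulVec_add, mulVec_sub, polar_add_right, polar_sub_right] at e1 e2 e3 ⊢
      rw [sub_eq_add_neg w z, form_add, QuadraticMap.map_neg, polar_neg_right] at e2
      rw [form_add] at e1
      refine mul_left_cancel₀ h2 ?_
      linear_combination -e1 - e2 + 2 * e3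
    intro w hwu hwv
    by_contra hne
    -- a vector in the kernel of the functional
    let Φ : (Fin 4 → F) →ₗ[F] (Fin 3 → F) := LinearMap.pi
      ![lmap (GeomMax32.Similitude.bil Q) u, lmap (GeomMax32.Similitude.bil Q) v,
        lmap (GeomMax32.Similitude.bil Q) (G *ᵥ v) ∘ₗ Matrix.mulVecLin G]
    obtain ⟨z, hz, hz0⟩ := Submodule.exists_mem_ne_zero_of_ne_bot
      (LinearMap.ker_ne_bot_of_finrank_lt (f := Φ) (by simp))
    have hzu : polar (⇑Q) z u = 0 := congrFun hz 0
    have hzv : polar (⇑Q) z v = 0 := congrFun hz 1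
    have hzm : P v z = 0 := by rw [hP]; show polar (⇑Q) (G *ᵥ v) (G *ᵥ z) = 0
                               rw [polar_comm]; exact congrFun hz 2
    have hQz : Q z = 0 := by
      have := hid w z hwu hwv hzu hzv
      rw [hzm, mul_zero, add_zero] at this
      exact (mul_eq_zero.mp this).resolve_right hne
    refine hz0 (eq_zero_of_perp hQ hu hv huv hzu hzv fun y hyu hyv => ?_)
    have e1 := hid z w hzu hzv hwu hwv
    rw [hzm, mul_zero, zero_add] at e1
    have e2 := hid z y hzu hzv hyu hyv
    rw [hzm, mul_zero, zero_add] at e2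
    by_cases hy : P v y = 0
    · have e3 := hid z (y + w) hzu hzv (by rw [polar_add_left, hyu, hwu, add_zero])
        (by rw [polar_add_left, hyv, hwv, add_zero])
      rw [hzm, mul_zero, zero_add, polar_add_right, (mul_eq_zero.mp e1).resolve_right hne,
        add_zero] at e3
      refine (mul_eq_zero.mp e3).resolve_right ?_
      intro e
      apply hne
      simp only [hP, mulVec_add, polar_add_right] at e hy ⊢
      linear_combination e - hy
    · exact (mul_eq_zero.mp e2).resolve_right hy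
  have hvu : polar (⇑Q) v u = 1 := by rw [polar_comm]; exact huv
  have hall : ∀ x, Q (G *ᵥ x) = μ * Q x := by
    intro x
    obtain ⟨h1, h2'⟩ := proj_perp hu hv huv x
    set w := x - polar (⇑Q) x v • u - polar (⇑Q) x u • v with hw
    obtain ⟨h3, h4⟩ := hbase w h1 h2'
    have h5 := hm w h1 h2'
    have hx : x = polar (⇑Q) x v • u + polar (⇑Q) x u • v + w := by rw [hw]; abel
    rw [h5, mul_zero] at h3
    simp only [hP] at h3 h5
    conv_lhs => rw [hx]
    conv_rhs => rw [hx]
    simp only [mulVec_add, mulVec_smul, form_add, form_smul, h u hu, h v hv, hu, hv, huv,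
      polar_smul_right, polar_add_left, polar_smul_left, smul_eq_mul, h3, h5, h4,
      polar_comm (⇑Q) u w, polar_comm (⇑Q) v w, h1, h2']
    simp only [hμ, hP]
    ring
  have hμ0 : μ ≠ 0 := by
    intro e
    obtain ⟨w, -, -, hw⟩ := exists_perp_ne hQ hu hv huv
    refine hw ?_
    -- every value vanishes
    have h0 : ∀ x, Q x = 0 := fun x => by
      have := hall (((g⁻¹ : GL (Fin 4) F) : Matrix (Fin 4) (Fin 4) F) *ᵥ x)
      rw [mulVec_inv_mulVec, e, zero_mul] at this
      exact this
    exact h0 w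
  exact ⟨Units.mk0 μ hμ0, fun x => by rw [Units.val_mk0]; exact hall x⟩

end Cfsg.Agent.SL4Geo89
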