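import Cfsg.Agent.MaxSub.OrthVectorGL
import Cfsg.Agent.SL4Geo89.Lifts
import Cfsg.Agent.SL4Geo89.QuadricBasics

/-!
The similitude group of a quadratic form in four variables is maximal in the special linear group, odd
characteristic, either type (helper89).
-/

set_option autoImplicit false
set_option linter.unusedSectionVars false

namespace Cfsg.Agent.SL4Geo89

open Matrix QuadraticMap Cfsg.Agent.MaxSub Cfsg.Agent.UnitaryOrthogonal Cfsg.Agent.OrthStab

variable {F : Type*} [Field F] [Finite F]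

/-- Elements of `M` fixing `d` and inducing every elation with axis `η`, none a transvection. -/
def Elations (M : Subgroup (GL (Fin 4) F)) (d η : Fin 4 → F) : Prop :=
  η ⬝ᵥ d = 0 ∧ ∀ w, η ⬝ᵥ w = 0 → ∃ X ∈ M, ∃ θ : Fin 4 → F, θ ⬝ᵥ d = 0 ∧
    (∀ x, (X : Matrix (Fin 4) (Fin 4) F) *ᵥ x = x + (η ⬝ᵥ x) • w + (θ ⬝ᵥ x) • d) ∧
    ((∃ c : F, θ = c • η) → w ∈ Submodule.span F {d})

theorem Elations.conj {M : Subgroup (GL (Fin 4) F)} {d η : Fin 4 → F} (h : Elations M d η)
    {k : GL (Fin 4) F} (hk : k ∈ M) (hkd : (k : Matrix (Fin 4) (Fin 4) F) *ᵥ d = d) :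
    Elations M d (η ᵥ* ((k⁻¹ : GL (Fin 4) F) : Matrix (Fin 4) (Fin 4) F)) := by
  obtain ⟨hηd, h⟩ := h
  have hkd' : ((k⁻¹ : GL (Fin 4) F) : Matrix (Fin 4) (Fin 4) F) *ᵥ d = d := by
    conv_lhs => rw [← hkd]
    exact inv_mulVec_mulVec k d
  refine ⟨by rw [← dotProduct_mulVec, hkd', hηd], fun w' hw' => ?_⟩
  rw [← dotProduct_mulVec] at hw'
  obtain ⟨X, hX, θ, hθd, hXv, hθ⟩ := h _ hw'
  refine ⟨k * X * k⁻¹, mul_mem (mul_mem hk hX) (inv_mem hk),
    θ ᵥ* ((k⁻¹ : GL (Fin 4) F) : Matrix (Fin 4) (Fin 4) F), by rw [← dotProduct_mulVec, hkd', hθd],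
    fun x => ?_, fun ⟨c, hc⟩ => ?_⟩
  · rw [Units.val_mul, Units.val_mul, ← mulVec_mulVec, ← mulVec_mulVec, hXv, mulVec_add, mulVec_add,
      mulVec_smul, mulVec_smul, mulVec_inv_mulVec, mulVec_inv_mulVec, hkd, ← dotProduct_mulVec,
      ← dotProduct_mulVec]
  · have hθc : θ = c • η := by
      funext r
      have h1 := congrArg (fun z => (z ᵥ* (k : Matrix (Fin 4) (Fin 4) F)) r) hc
      simpa [vecMul_vecMul, smul_vecMul, Units.inv_mul] using h1
    obtain ⟨e, he⟩ := Submodule.mem_span_singleton.mp (hθ ⟨c, hθc⟩)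
    refine Submodule.mem_span_singleton.mpr ⟨e, ?_⟩
    have h1 := congrArg ((k : Matrix (Fin 4) (Fin 4) F) *ᵥ ·) he
    simpa [mulVec_smul, hkd, mulVec_inv_mulVec] using h1

variable {Q : QuadraticForm F (Fin 4 → F)} {M : Subgroup (GL (Fin 4) F)}
  (hQ : PolarND Q) (h2 : (2 : F) ≠ 0)
  (hseM : ∀ u z, Q u = 0 → polar (⇑Q) z u = 0 → GeomMax32.Similitude.se Q u z ∈ M)

open GeomMax32.Similitude (se se_mulVec se_isom bil)

include hQ h2 hseM

/-- A singular vector moved off the quadric gives all transvections at the new place. -/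
theorem full_at_image {g : GL (Fin 4) F} (hg : g ∈ M) {a : Fin 4 → F} (ha : Q a = 0) (ha0 : a ≠ 0)
    (hd : Q ((g : Matrix (Fin 4) (Fin 4) F) *ᵥ a) ≠ 0) :
    ∀ θ : Fin 4 → F, θ ⬝ᵥ ((g : Matrix (Fin 4) (Fin 4) F) *ᵥ a) = 0 →
      θ ∈ dualSet M ((g : Matrix (Fin 4) (Fin 4) F) *ᵥ a) := by
  classical
  have hb := bil Q
  set G' := ((g⁻¹ : GL (Fin 4) F) : Matrix (Fin 4) (Fin 4) F) with hG'
  set d := (g : Matrix (Fin 4) (Fin 4) F) *ᵥ a with hddef
  have hd0 : d ≠ 0 := fun e => hd (by rw [e]; simp)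
  have hgd : G' *ᵥ d = a := inv_mulVec_mulVec g a
  obtain ⟨e₁, he₁⟩ := exists_rep hb (nd hQ) (rep (polar (⇑Q)) a ᵥ* G')
  have hη : ∀ x, rep (polar (⇑Q)) e₁ ⬝ᵥ x = polar (⇑Q) (G' *ᵥ x) a := fun x => by
    rw [he₁, ← dotProduct_mulVec, rep_dot hb]
  have hA₁ : Elations M d (rep (polar (⇑Q)) e₁) := by
    refine ⟨by rw [hη, hgd, polar_self_eq, ha, mul_zero], fun w hw => ?_⟩
    rw [hη] at hw
    set z := G' *ᵥ w with hz
    refine ⟨g * se Q a z * g⁻¹, mul_mem (mul_mem hg (hseM a z ha hw)) (inv_mem hg),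
      -(rep (polar (⇑Q)) z ᵥ* G') - Q z • rep (polar (⇑Q)) e₁, ?_, fun x => ?_, fun ⟨c, hc⟩ => ?_⟩
    · rw [sub_dotProduct, neg_dotProduct, smul_dotProduct, hη, ← dotProduct_mulVec, hgd, rep_dot hb,
        polar_self_eq, ha, polar_comm, hw]
      simp
    · rw [Units.val_mul, Units.val_mul, ← mulVec_mulVec, ← mulVec_mulVec, se_mulVec ha hw, mulVec_sub,
        mulVec_sub, mulVec_add, mulVec_smul, mulVec_smul, mulVec_smul, mulVec_inv_mulVec, ← hddef,
        hz, mulVec_inv_mulVec, ← hz, sub_dotProduct, neg_dotProduct, smul_dotProduct, hη,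
        ← dotProduct_mulVec, rep_dot hb, smul_eq_mul]
      simp only [← hG']
      module
    · have h1 : rep (polar (⇑Q)) z = rep (polar (⇑Q)) ((-(Q z + c)) • a) := by
        have h3 := congrArg (fun θ => θ ᵥ* (g : Matrix (Fin 4) (Fin 4) F)) hc
        simp only [he₁, sub_vecMul, neg_vecMul, smul_vecMul, vecMul_vecMul, hG', Units.inv_mul,
          vecMul_one] at h3
        rw [rep_smul hb]
        funext r
        have := congrFun h3 r
        simp at this ⊢
        linear_combination -this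
      refine Submodule.mem_span_singleton.mpr ⟨-(Q z + c), ?_⟩
      have h4 : z = (-(Q z + c)) • a := rep_inj hQ h1
      have h5 := congrArg ((g : Matrix (Fin 4) (Fin 4) F) *ᵥ ·) h4
      have h6 : (g : Matrix (Fin 4) (Fin 4) F) *ᵥ z = w := mulVec_inv_mulVec g w
      rw [h6, mulVec_smul, ← hddef] at h5
      exact h5.symm
  -- the axes reached
  set O : Set (Fin 4 → F) := {e | polar (⇑Q) e d = 0 ∧ Elations M d (rep (polar (⇑Q)) e)} with hO
  have he₁d : polar (⇑Q) e₁ d = 0 := by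
    rw [polar_comm, ← rep_dot hb, hη, hgd, polar_self_eq, ha, mul_zero]
  have he₁O : e₁ ∈ O := ⟨he₁d, hA₁⟩
  have hfix : ∀ u z, Q u = 0 → polar (⇑Q) z u = 0 → polar (⇑Q) d u = 0 → polar (⇑Q) d z = 0 →
      ∀ e ∈ Submodule.span F O, (se Q u z : Matrix (Fin 4) (Fin 4) F) *ᵥ e ∈ Submodule.span F O := by
    intro u z hu hzu hdu hdz
    have hkd : (se Q u z : Matrix (Fin 4) (Fin 4) F) *ᵥ d = d := by
      rw [se_mulVec hu hzu, hdu, hdz]; simp
    intro e he
    refine Submodule.span_induction ?_ ?_ ?_ ?_ he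
    · intro e he
      refine Submodule.subset_span ⟨?_, ?_⟩
      · nth_rewrite 1 [← hkd]
        exact ((mem_isom.mp (se_isom hu hzu)) e d).trans he.1
      · have := he.2.conj (hseM u z hu hzu) hkd
        rwa [rep_vecMul_inv hb (se_isom hu hzu)] at this
    · rw [mulVec_zero]; exact zero_mem _
    · intro x y _ _ hx hy; rw [mulVec_add]; exact add_mem hx hy
    · intro c x _ hx; rw [mulVec_smul]; exact Submodule.smul_mem _ _ hx
  obtain ⟨u, huker, hu0, hu⟩ := exists_singular_mem (Q := Q) (LinearMap.ker (lmap hb d)) (by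
    have h1 := LinearMap.finrank_range_add_finrank_ker (lmap hb d)
    have h3 := Submodule.finrank_le (LinearMap.range (lmap hb d))
    simp at h1 h3
    omega)
  have hud : polar (⇑Q) u d = 0 := huker
  have hdd : polar (⇑Q) d d ≠ 0 := by rw [polar_self_eq]; exact mul_ne_zero h2 hd
  obtain ⟨v, hv, huv, hvd'⟩ := exists_partner (S := Submodule.span F {d}) hQ
    (fun hm => by
      obtain ⟨c, rfl⟩ := Submodule.mem_span_singleton.mp hm
      rw [polar_smul_left, smul_eq_mul] at hud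
      exact (smul_ne_zero_iff.mp hu0).1 ((mul_eq_zero.mp hud).resolve_right hdd))
    hu (fun x hx => by
      obtain ⟨c, rfl⟩ := Submodule.mem_span_singleton.mp hx
      rw [polar_smul_right, hud, smul_zero])
  have hvd : polar (⇑Q) v d = 0 := hvd' d (Submodule.mem_span_singleton_self d)
  have hvu : polar (⇑Q) v u = 1 := by rw [polar_comm]; exact huv
  let Φ : (Fin 4 → F) →ₗ[F] (Fin 3 → F) := LinearMap.pi ![lmap hb d, lmap hb u, lmap hb v]
  obtain ⟨w, hwk, hw0⟩ := Submodule.exists_mem_ne_zero_of_ne_bot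
    (LinearMap.ker_ne_bot_of_finrank_lt (f := Φ) (by simp))
  have hwd : polar (⇑Q) w d = 0 := congrFun hwk 0
  have hwu : polar (⇑Q) w u = 0 := congrFun hwk 1
  have hwv : polar (⇑Q) w v = 0 := congrFun hwk 2
  have hdu : polar (⇑Q) d u = 0 := by rw [polar_comm]; exact hud
  have hdv : polar (⇑Q) d v = 0 := by rw [polar_comm]; exact hvd
  have hdw : polar (⇑Q) d w = 0 := by rw [polar_comm]; exact hwd
  have huw : polar (⇑Q) u w = 0 := by rw [polar_comm]; exact hwu
  have hvw : polar (⇑Q) v w = 0 := by rw [polar_comm]; exact hwv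
  have h4li : LinearIndependent F ![d, u, v, w] := by
    rw [Fintype.linearIndependent_iff]
    intro c hc
    simp [Fin.sum_univ_four] at hc
    have E : ∀ x, polar (⇑Q) (c 0 • d + c 1 • u + c 2 • v + c 3 • w) x = 0 := fun x => by
      rw [hc, polar_zero_left]
    have ed := E d
    have eu := E u
    have ev := E v
    simp only [polar_add_left, polar_smul_left, smul_eq_mul, hud, hvd, hwd, hdu, hdv, hvu, hwu, huv,
      hwv, polar_self_eq, hu, hv, mul_zero, mul_one, add_zero, zero_add] at ed eu ev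
    have c0 : c 0 = 0 := (mul_eq_zero.mp ed).resolve_right (mul_ne_zero h2 hd)
    have c3 : c 3 = 0 := by
      rw [c0, eu, ev] at hc
      simpa [hw0] using hc
    intro i
    fin_cases i <;> simp [c0, eu, ev, c3]
  have hQw : Q w ≠ 0 := by
    intro hw
    refine hw0 (hQ w fun x => ?_)
    have hx : x ∈ Submodule.span F (Set.range ![d, u, v, w]) := by
      rw [h4li.span_eq_top_of_card_eq_finrank (by simp)]; trivial
    have hle : Submodule.span F (Set.range ![d, u, v, w]) ≤ LinearMap.ker (lmap hb w) := by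
      rw [Submodule.span_le]
      rintro _ ⟨i, rfl⟩
      show polar (⇑Q) _ w = 0
      fin_cases i <;> simp [hdw, huw, hvw, polar_self_eq, hw]
    rw [polar_comm]
    exact hle hx
  -- the span of the axes is the hyperplane
  set S := Submodule.span F O with hS
  have move : ∀ p z, Q p = 0 → polar (⇑Q) z p = 0 → polar (⇑Q) d p = 0 → polar (⇑Q) d z = 0 →
      ∀ e ∈ S, polar (⇑Q) e p • z - polar (⇑Q) e z • p ∈ S ∧
        (Q z * polar (⇑Q) e p) • p ∈ S := by
    intro p z hp hzp hdp hdz e he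
    have hm : polar (⇑Q) (-z) p = 0 := by rw [polar_neg_left, hzp, neg_zero]
    have h1 := sub_mem (hfix p z hp hzp hdp hdz e he) he
    have h3 := sub_mem (hfix p (-z) hp hm hdp (by rw [polar_neg_right, hdz, neg_zero]) e he) he
    rw [se_mulVec hp hzp] at h1
    rw [se_mulVec hp hm, QuadraticMap.map_neg, polar_neg_right] at h3
    constructor
    · have := Submodule.smul_mem S (2 : F)⁻¹ (sub_mem h1 h3)
      convert! this using 1
      match_scalars <;> field_simp <;> ring
    · have := Submodule.smul_mem S (-(2 : F)⁻¹) (add_mem h1 h3)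
      convert! this using 1
      match_scalars <;> field_simp <;> ring
  have gen : ∀ p p', Q p = 0 → Q p' = 0 → polar (⇑Q) p p' = 1 → polar (⇑Q) w p = 0 →
      polar (⇑Q) w p' = 0 → polar (⇑Q) d p = 0 → polar (⇑Q) d p' = 0 →
      ∀ e ∈ S, polar (⇑Q) e p ≠ 0 → p ∈ S ∧ p' ∈ S ∧ w ∈ S := by
    intro p p' hp hp' hpp hwp hwp' hdp hdp' e he hne
    have hpS : p ∈ S := (Submodule.smul_mem_iff S (mul_ne_zero hQw hne)).mp
      (move p w hp hwp hdp hdw e he).2
    have hwS : w ∈ S := (Submodule.smul_mem_iff S hne).mp (by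
      have := add_mem (move p w hp hwp hdp hdw e he).1 (Submodule.smul_mem S (polar (⇑Q) e w) hpS)
      simpa using this)
    refine ⟨hpS, (Submodule.smul_mem_iff S (mul_ne_zero hQw ?_)).mp
      (move p' w hp' hwp' hdp' hdw p hpS).2, hwS⟩
    rw [hpp]; exact one_ne_zero
  have hspan : u ∈ S ∧ v ∈ S ∧ w ∈ S := by
    have he : e₁ ∈ S := Submodule.subset_span he₁O
    by_cases h1 : polar (⇑Q) e₁ u = 0
    · by_cases h3 : polar (⇑Q) e₁ v = 0
      · have h5 : polar (⇑Q) e₁ w ≠ 0 := by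
          intro h5
          have he0 : e₁ ≠ 0 := by
            intro e0
            refine hd0 ?_
            obtain ⟨z, hz⟩ := (nd hQ a ha0).1
            have := hη ((g : Matrix (Fin 4) (Fin 4) F) *ᵥ z)
            rw [e0, inv_mulVec_mulVec, rep_dot hb, polar_zero_right] at this
            exact absurd this.symm hz
          refine he0 (hQ e₁ fun x => ?_)
          have hx : x ∈ Submodule.span F (Set.range ![d, u, v, w]) := by
            rw [h4li.span_eq_top_of_card_eq_finrank (by simp)]; trivial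
          have hle : Submodule.span F (Set.range ![d, u, v, w]) ≤ LinearMap.ker (lmap hb e₁) := by
            rw [Submodule.span_le]
            rintro _ ⟨i, rfl⟩
            show polar (⇑Q) _ e₁ = 0
            rw [polar_comm]
            fin_cases i <;> simp [he₁d, h1, h3, h5]
          rw [polar_comm]
          exact hle hx
        have huS : u ∈ S := by
          have := (move u w hu hwu hdu hdw e₁ he).1
          rw [h1, zero_smul, zero_sub] at this
          exact (Submodule.smul_mem_iff S h5).mp (by simpa using this)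
        obtain ⟨hv', hu', hw'⟩ := gen v u hv hu hvu hwv hwu hdv hdu u huS
          (by rw [huv]; exact one_ne_zero)
        exact ⟨hu', hv', hw'⟩
      · obtain ⟨hv', hu', hw'⟩ := gen v u hv hu hvu hwv hwu hdv hdu e₁ he h3
        exact ⟨hu', hv', hw'⟩
    · exact gen u v hu hv huv hwu hwv hdu hdv e₁ he h1
  have h3li : LinearIndependent F ![u, v, w] := by
    have := h4li.comp Fin.succ (Fin.succ_injective _)
    convert! this using 1
  obtain ⟨f, hf, hfli⟩ := exists_indep (O := O) 3 (by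
    have h1 : Submodule.span F (Set.range ![u, v, w]) ≤ S := by
      rw [Submodule.span_le]
      rintro _ ⟨i, rfl⟩
      fin_cases i
      · exact hspan.1
      · exact hspan.2.1
      · exact hspan.2.2
    have h3 := Submodule.finrank_mono h1
    rwa [finrank_span_eq_card h3li, Fintype.card_fin] at h3)
  -- coordinates
  set R : Matrix (Fin 4) (Fin 4) F := Matrix.of
    ![(2 * Q d)⁻¹ • rep (polar (⇑Q)) d, rep (polar (⇑Q)) (f 0), rep (polar (⇑Q)) (f 1),
      rep (polar (⇑Q)) (f 2)] with hR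
  have hRli : LinearIndependent F R.row := by
    rw [Fintype.linearIndependent_iff]
    intro c hc
    have hc' : rep (polar (⇑Q)) ((c 0 * (2 * Q d)⁻¹) • d + c 1 • f 0 + c 2 • f 1 + c 3 • f 2) =
        rep (polar (⇑Q)) 0 := by
      have h0 : rep (polar (⇑Q)) (0 : Fin 4 → F) = 0 := by
        simpa using rep_smul hb (0 : F) d
      rw [h0, rep_add hb, rep_add hb, rep_add hb, rep_smul hb, rep_smul hb, rep_smul hb, rep_smul hb]
      rw [Fin.sum_univ_four] at hc
      change c 0 • ((2 * Q d)⁻¹ • rep (polar (⇑Q)) d) + c 1 • rep (polar (⇑Q)) (f 0) +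
        c 2 • rep (polar (⇑Q)) (f 1) + c 3 • rep (polar (⇑Q)) (f 2) = 0 at hc
      rwa [smul_smul] at hc
    have hz := rep_inj hQ hc'
    have h0 := congrArg (fun z => polar (⇑Q) z d) hz
    simp only [polar_add_left, polar_smul_left, polar_zero_left, (hf 0).1, (hf 1).1, (hf 2).1,
      polar_self_eq, smul_eq_mul, mul_zero, add_zero] at h0
    have hc0 : c 0 = 0 := by
      rw [mul_assoc, inv_mul_cancel₀ (mul_ne_zero h2 hd), mul_one] at h0
      exact h0
    rw [hc0, zero_mul, zero_smul, zero_add] at hz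
    have := Fintype.linearIndependent_iff.mp hfli (fun i => c i.succ) (by
      simpa [Fin.sum_univ_three] using hz)
    intro i
    fin_cases i
    · exact hc0
    · exact this 0
    · exact this 1
    · exact this 2
  have hRu : IsUnit R := Matrix.linearIndependent_rows_iff_isUnit.mp hRli
  set P : GL (Fin 4) F := hRu.unit with hP
  have hPc : (P : Matrix (Fin 4) (Fin 4) F) = R := IsUnit.unit_spec hRu
  set P' := ((P⁻¹ : GL (Fin 4) F) : Matrix (Fin 4) (Fin 4) F) with hP'
  have hRi : ∀ (i : Fin 3) x, (R *ᵥ x) i.succ = rep (polar (⇑Q)) (f i) ⬝ᵥ x := by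
    intro i x; fin_cases i <;> rfl
  have hRd : R *ᵥ d = Pi.single 0 1 := by
    funext i
    rcases Fin.eq_zero_or_eq_succ i with rfl | ⟨j, rfl⟩
    · show ((2 * Q d)⁻¹ • rep (polar (⇑Q)) d) ⬝ᵥ d = _
      rw [smul_dotProduct, rep_dot hb, polar_self_eq, smul_eq_mul,
        inv_mul_cancel₀ (mul_ne_zero h2 hd)]
      simp
    · rw [hRi, rep_dot hb, polar_comm, (hf j).1]
      simp
  have hP'0 : P' *ᵥ Pi.single 0 1 = d := by
    rw [← hRd, ← hPc, inv_mulVec_mulVec]
  set L := M.map (MulAut.conj P).toMonoidHom with hL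
  have hlift : ∀ i j : Fin 4, i ≠ 0 → j ≠ 0 → i ≠ j → ∀ c : F, ∃ x ∈ L, ∃ θ, IsLift x i j c θ ∧
      (c ≠ 0 → ∃ k, k ≠ j ∧ θ k ≠ 0) := by
    intro i j hi hj hij c
    obtain ⟨j', rfl⟩ := (Fin.eq_zero_or_eq_succ j).resolve_left hj
    set w' := P' *ᵥ Pi.single i c with hw'
    have hw : rep (polar (⇑Q)) (f j') ⬝ᵥ w' = 0 := by
      rw [← hRi, hw', ← hPc, mulVec_inv_mulVec]
      simp [hij.symm]
    obtain ⟨X, hX, θ, hθd, hXv, hθ⟩ := (hf j').2.2 w' hw
    refine ⟨P * X * P⁻¹, ⟨X, hX, rfl⟩, θ ᵥ* P', ⟨?_, fun y => ?_⟩, fun hc => ?_⟩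
    · rw [show (θ ᵥ* P') 0 = (θ ᵥ* P') ⬝ᵥ Pi.single 0 1 by simp, ← dotProduct_mulVec, hP'0, hθd]
    · rw [Units.val_mul, Units.val_mul, ← mulVec_mulVec, ← mulVec_mulVec, hXv, mulVec_add, mulVec_add,
        mulVec_smul, mulVec_smul, mulVec_inv_mulVec, hw', ← hRi, ← hPc, mulVec_inv_mulVec,
        mulVec_inv_mulVec, hPc, hRd, ← dotProduct_mulVec]
      rw [← hP', mul_comm c, ← smul_smul, ← Pi.single_smul' i c (1 : F), smul_eq_mul, mul_one]
    · by_contra hh
      push Not at hh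
      have hθ' : θ = (θ ᵥ* P') j'.succ • rep (polar (⇑Q)) (f j') := by
        refine dotProduct_eq _ _ fun x => ?_
        rw [smul_dotProduct, ← hRi, ← hPc]
        have e : θ ⬝ᵥ x = (θ ᵥ* P') ⬝ᵥ ((P : Matrix (Fin 4) (Fin 4) F) *ᵥ x) := by
          rw [vecMul_inv_dotProduct]
        rw [e, dotProduct, Finset.sum_eq_single j'.succ (fun k _ hk => by rw [hh k hk, zero_mul])
          (by simp)]
        rfl
      obtain ⟨e, he⟩ := Submodule.mem_span_singleton.mp (hθ ⟨_, hθ'⟩)
      have h1 := congrArg ((P : Matrix (Fin 4) (Fin 4) F) *ᵥ ·) he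
      have h7 : (P : Matrix (Fin 4) (Fin 4) F) *ᵥ w' = Pi.single i c := mulVec_inv_mulVec P _
      rw [mulVec_smul, h7, hPc, hRd] at h1
      have h5 := congrFun h1 i
      simp [hi, Ne.symm hc] at h5
  intro θ hθ
  have hθR : (θ ᵥ* P') 0 = 0 := by
    rw [show (θ ᵥ* P') 0 = (θ ᵥ* P') ⬝ᵥ Pi.single 0 1 by simp, ← dotProduct_mulVec, hP'0, hθ]
  obtain ⟨h0, X, hX, hXe⟩ := full_of_lifts h2 hlift (θ ᵥ* P') hθR
  refine ⟨hθ, ?_⟩
  have hX' : X = P⁻¹ * tv (Pi.single 0 1) (θ ᵥ* P') * P⁻¹⁻¹ := by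
    rw [← hXe]
    show X = P⁻¹ * (P * X * P⁻¹) * P⁻¹⁻¹
    group
  rw [tv_conj _ h0, inv_inv, ← hP', hP'0, vecMul_vecMul, hP', Units.inv_mul, vecMul_one] at hX'
  exact hX' ▸ hX

/-- A singular vector moved off the quadric gives the special linear group. -/
theorem le_of_image {g : GL (Fin 4) F} (hg : g ∈ M) {a : Fin 4 → F} (ha : Q a = 0) (ha0 : a ≠ 0)
    (hd : Q ((g : Matrix (Fin 4) (Fin 4) F) *ᵥ a) ≠ 0) : Geo.specialLinear (Fin 4) F ≤ M := by
  have hd' := full_at_image hQ h2 hseM hg ha ha0 hd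
  have hfull : ∀ b, Q b = 0 → b ≠ 0 → ∀ θ : Fin 4 → F, θ ⬝ᵥ b = 0 → tv b θ ∈ M := by
    have hA : ∀ θ : Fin 4 → F, θ ⬝ᵥ a = 0 → tv a θ ∈ M := by
      intro θ hθ
      have h := conj_mem_dualSet (inv_mem hg) (hd' (θ ᵥ* ((g⁻¹ : GL (Fin 4) F) : Matrix (Fin 4) (Fin 4) F))
        (by rw [vecMul_inv_dotProduct, hθ]))
      rw [inv_inv, inv_mulVec_mulVec, vecMul_vecMul, Units.inv_mul, vecMul_one] at h
      exact h.2
    intro b hb hb0 θ hθ
    obtain ⟨u, hu, hua, hub⟩ := exists_common hQ ha ha0 hb hb0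
    set b' := (polar (⇑Q) u a / polar (⇑Q) u b) • b with hb'
    set z := (polar (⇑Q) u a)⁻¹ • (b' - a) with hz
    have hzu : polar (⇑Q) z u = 0 := by
      rw [hz, polar_smul_left, polar_sub_left, hb', polar_smul_left, polar_comm (⇑Q) b u,
        polar_comm (⇑Q) a u, smul_eq_mul, smul_eq_mul, div_mul_cancel₀ _ hub, sub_self, mul_zero]
    set k := se Q u z with hk
    have hka : ∃ c : F, (k : Matrix (Fin 4) (Fin 4) F) *ᵥ a = b' + c • u := by
      refine ⟨-(polar (⇑Q) a z + Q z * polar (⇑Q) a u), ?_⟩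
      rw [hk, se_mulVec hu hzu, polar_comm (⇑Q) a u, hz]
      match_scalars <;> field_simp <;> ring
    obtain ⟨c, hc⟩ := hka
    have hc0 : c = 0 := by
      have h := GeomMax32.Similitude.se_isom (Q := Q) hu hzu
      have e : Q ((k : Matrix (Fin 4) (Fin 4) F) *ᵥ a) = 0 := by
        have := mem_isom.mp h a a
        rw [polar_self_eq, polar_self_eq, ha, mul_zero] at this
        exact (mul_eq_zero.mp this).resolve_left h2
      simp only [hc, hb', form_add, form_smul, hu, hb, polar_smul_left, polar_smul_right,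
        smul_eq_mul, polar_comm (⇑Q) b u] at e
      have : polar (⇑Q) u a * c = 0 := by
        field_simp at e
        refine mul_left_cancel₀ (pow_ne_zero 2 hub) ?_
        linear_combination e
      exact (mul_eq_zero.mp this).resolve_left hua
    rw [hc0, zero_smul, add_zero] at hc
    set r := polar (⇑Q) u a / polar (⇑Q) u b with hr
    have hr0 : r ≠ 0 := div_ne_zero hua hub
    have h := conj_mem_dualSet (hseM u z hu hzu)
      (show (r⁻¹ • θ) ᵥ* (k : Matrix (Fin 4) (Fin 4) F) ∈ dualSet M a from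
        ⟨by rw [← dotProduct_mulVec, hc, hb', smul_dotProduct, dotProduct_smul, hθ]; simp,
          hA _ (by rw [← dotProduct_mulVec, hc, hb', smul_dotProduct, dotProduct_smul, hθ]; simp)⟩)
    rw [vecMul_vecMul, ← hk, Units.mul_inv, vecMul_one, hc] at h
    have h' := h.2
    rw [hb', tv_smul_comm _ (by rw [smul_dotProduct, hθ, smul_zero]), smul_smul,
      mul_inv_cancel₀ hr0, one_smul] at h'
    exact h'
  obtain ⟨b, hbS, hbli⟩ := exists_indep (O := {x : Fin 4 → F | Q x = 0}) 4 (by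
    rw [span_singular hQ, finrank_top]; simp)
  have hBu : IsUnit (Matrix.of b)ᵀ := by
    rw [Matrix.isUnit_transpose]
    exact Matrix.linearIndependent_rows_iff_isUnit.mp hbli
  set P : GL (Fin 4) F := hBu.unit with hP
  have hPc : (P : Matrix (Fin 4) (Fin 4) F) = (Matrix.of b)ᵀ := IsUnit.unit_spec hBu
  have hle : Geo.specialLinear (Fin 4) F ≤ M.comap (MulAut.conj P).toMonoidHom := by
    refine Frame.specialLinear_le_of_el_mem fun i j hij c => ?_
    show P * Frame.el i j c * P⁻¹ ∈ M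
    rw [Frame.el, tv_conj P (Frame.el_ortho hij c)]
    have hcol : (P : Matrix (Fin 4) (Fin 4) F) *ᵥ Pi.single i 1 = b i := by
      rw [hPc, mulVec_single_one]; rfl
    rw [hcol]
    refine hfull _ (hbS i) (hbli.ne_zero i) _ ?_
    rw [← hcol, vecMul_inv_dotProduct, Frame.el_ortho hij c]
  intro x hx
  have h := hle (show P⁻¹ * x * P⁻¹⁻¹ ∈ Geo.specialLinear (Fin 4) F from
    (inferInstance : (MonoidHom.ker
      (Matrix.GeneralLinearGroup.det (n := Fin 4) (R := F))).Normal).conj_mem x hx P⁻¹)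
  have h' : P * (P⁻¹ * x * P⁻¹⁻¹) * P⁻¹ ∈ M := h
  simpa [mul_assoc] using h'

omit hQ h2 hseM in
/-- Clause on quadratic similitudes: odd characteristic, either type. -/
theorem quadric_maximal {F : Type*} [Field F] [Fintype F] :
    Odd (Fintype.card F) → ∀ Q : (Fin 4 → F) → F, Cfsg.Geo.IsNondegenerateQuadraticForm Q → Cfsg.Geo.IsMaximalIn (Cfsg.Geo.specialLinear (Fin 4) F) (Cfsg.Geo.quadSimilarityGroup Q ⊓ Cfsg.Geo.specialLinear (Fin 4) F) := by
  classical
  intro hodd Q hQ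
  obtain ⟨Qf, rfl, hnd⟩ := OrthStab.exists_form hQ
  have h2 : (2 : F) ≠ 0 := fun h => by
    have := CharP.ringChar_of_prime_eq_zero (R := F) Nat.prime_two (by exact_mod_cast h)
    have hev : Even (Fintype.card F) := by
      rw [Nat.even_iff]; exact FiniteField.even_card_iff_char_two.mp this
    exact Nat.not_odd_iff_even.mpr hev hodd
  refine isMaximalIn_of inf_le_right ?_ ?_
  · obtain ⟨a, b, ha, hb, hab, -⟩ := exists_pair hnd
    refine ⟨MaxSub.tv a (MaxSub.rep (polar ⇑Qf) a), MaxSub.tv_mem_specialLinear _ _, fun hmem => ?_⟩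
    obtain ⟨c, hc⟩ := hmem.1
    have h := hc b
    rw [MaxSub.tv_mulVec (by rw [MaxSub.rep_dot (GeomMax32.Similitude.bil Qf), polar_self_eq, ha,
      mul_zero]), MaxSub.rep_dot (GeomMax32.Similitude.bil Qf), polar_comm, hab, one_smul,
      form_add, hb, ha, polar_comm, hab, mul_zero, zero_add, zero_add] at h
    exact one_ne_zero h
  · intro M hle hM g hg hgH
    have hseM : ∀ u z, Qf u = 0 → polar (⇑Qf) z u = 0 → GeomMax32.Similitude.se Qf u z ∈ M :=
      fun u z hu hz => hle (GeomMax32.Similitude.se_similar hu hz)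
    by_cases hgs : ∀ x, Qf x = 0 → Qf ((g : Matrix (Fin 4) (Fin 4) F) *ᵥ x) = 0
    · exact absurd ⟨similar_of_singular hnd h2 hgs, hM hg⟩ hgH
    · push Not at hgs
      obtain ⟨a, ha, hd⟩ := hgs
      exact le_of_image hnd h2 hseM hg ha (fun e => hd (by rw [e]; simp)) hd

end Cfsg.Agent.SL4Geo89
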