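import Mathlib

/-!
Four non-zero field elements with sum zero and a prescribed product (helper89).
-/

set_option autoImplicit false

namespace Cfsg.Agent.SL4Geo89

open Finset

variable {F : Type*} [Field F] [Fintype F] [DecidableEq F]

theorem sum_char_shift (h2 : ringChar F ≠ 2) (a b : F) :
    ∑ C : F, quadraticChar F ((a + C) * (b + C)) =
      (if a = b then (Fintype.card F : ℤ) else 0) - 1 := by
  by_cases hab : a = b
  · subst hab
    rw [if_pos rfl]
    have h : ∀ C : F, quadraticChar F ((a + C) * (a + C)) = 1 - (if C = -a then 1 else 0) := by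
      intro C
      by_cases hC : C = -a
      · subst hC; simp
      · have : a + C ≠ 0 := fun e => hC (by linear_combination e)
        rw [if_neg hC, sub_zero, ← sq, quadraticChar_sq_one' this]
    simp [h]
  · rw [if_neg hab, zero_sub]
    set δ := b - a with hδ
    have hd : δ ≠ 0 := sub_ne_zero.mpr (Ne.symm hab)
    have e1 : ∑ C : F, quadraticChar F ((a + C) * (b + C)) =
        ∑ e : F, quadraticChar F (e * (e + δ)) := by
      refine Fintype.sum_equiv (Equiv.addLeft a) _ _ fun C => ?_
      simp [hδ]
      ring_nf
    rw [e1]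
    have e2 : ∑ e ∈ Finset.univ.erase (0 : F), quadraticChar F (e * (e + δ)) =
        ∑ w ∈ Finset.univ.erase (1 : F), quadraticChar F w := by
      refine Finset.sum_bij' (fun e _ => 1 + δ / e) (fun w _ => δ / (w - 1)) ?_ ?_ ?_ ?_ ?_
      · intro e he
        simp only [Finset.mem_erase, Finset.mem_univ, and_true] at he ⊢
        simp [hd, he]
      · intro w hw
        simp only [Finset.mem_erase, Finset.mem_univ, and_true] at hw ⊢
        exact div_ne_zero hd (sub_ne_zero.mpr hw)
      · intro e he
        simp only [Finset.mem_erase, Finset.mem_univ, and_true] at he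
        simp [hd]
      · intro w hw
        simp only [Finset.mem_erase, Finset.mem_univ, and_true] at hw
        have := sub_ne_zero.mpr hw
        field_simp
        ring
      · intro e he
        simp only [Finset.mem_erase, Finset.mem_univ, and_true] at he
        rw [show e * (e + δ) = e ^ 2 * (1 + δ / e) by field_simp, map_mul,
          quadraticChar_sq_one' he, one_mul]
    rw [← Finset.add_sum_erase _ _ (Finset.mem_univ (0 : F)), e2]
    have hs := quadraticChar_sum_zero h2
    rw [← Finset.add_sum_erase _ _ (Finset.mem_univ (1 : F))] at hs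
    simp only [map_one, zero_mul, MulChar.map_zero] at hs ⊢
    linarith

/-- The second moment of the character sums of `x ^ 3 + C x`. -/
theorem moment (h2 : ringChar F ≠ 2) (hm : quadraticChar F (-1) = 1) :
    ∑ C : F, (∑ x : F, quadraticChar F (x * (x ^ 2 + C))) ^ 2 =
      2 * Fintype.card F * ((Fintype.card F : ℤ) - 1) := by
  have hsum := quadraticChar_sum_zero h2
  calc ∑ C : F, (∑ x : F, quadraticChar F (x * (x ^ 2 + C))) ^ 2
      = ∑ C : F, ∑ x : F, ∑ y : F,
          quadraticChar F x * quadraticChar F y * quadraticChar F ((x ^ 2 + C) * (y ^ 2 + C)) := by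
        refine Finset.sum_congr rfl fun C _ => ?_
        rw [sq, Finset.sum_mul_sum]
        refine Finset.sum_congr rfl fun x _ => Finset.sum_congr rfl fun y _ => ?_
        simp only [map_mul]; ring
    _ = ∑ x : F, ∑ y : F, quadraticChar F x * quadraticChar F y *
          ((if x ^ 2 = y ^ 2 then (Fintype.card F : ℤ) else 0) - 1) := by
        rw [Finset.sum_comm]
        refine Finset.sum_congr rfl fun x _ => ?_
        rw [Finset.sum_comm]
        refine Finset.sum_congr rfl fun y _ => ?_
        rw [← Finset.mul_sum, sum_char_shift h2]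
    _ = ∑ x : F, (Fintype.card F : ℤ) * (if x = 0 then 0 else 2) := by
        refine Finset.sum_congr rfl fun x _ => ?_
        simp only [mul_sub, mul_one, Finset.sum_sub_distrib, ← Finset.mul_sum, hsum, mul_zero,
          sub_zero]
        by_cases hx : x = 0
        · subst hx; simp
        rw [if_neg hx]
        have hne : x ≠ -x := fun e => hx (by
          have : (2 : F) * x = 0 := by linear_combination e
          exact (mul_eq_zero.mp this).resolve_left (Ring.two_ne_zero h2))
        rw [← Finset.sum_subset (Finset.subset_univ ({x, -x} : Finset F))]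
        · rw [Finset.sum_pair hne]
          have h1 : quadraticChar F x * quadraticChar F x = 1 := by
            rw [← sq, quadraticChar_sq_one hx]
          have h3 : quadraticChar F (-x) = quadraticChar F x := by
            rw [show -x = -1 * x by ring, map_mul, hm, one_mul]
          rw [h3, h1]
          simp
          ring
        · intro y _ hy
          simp only [Finset.mem_insert, Finset.mem_singleton, not_or] at hy
          have : ¬ x ^ 2 = y ^ 2 := fun e => by
            rcases sq_eq_sq_iff_eq_or_eq_neg.mp e.symm with h | h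
            · exact hy.1 h
            · exact hy.2 h
          simp [this]
    _ = 2 * Fintype.card F * ((Fintype.card F : ℤ) - 1) := by
        rw [← Finset.mul_sum]
        have : ∀ x : F, (if x = 0 then (0 : ℤ) else 2) = 2 - (if x = 0 then 2 else 0) := fun x => by
          split_ifs <;> norm_num
        simp [this]
        ring

theorem exists_square_value (h2 : ringChar F ≠ 2) (hq : 6 ≤ Fintype.card F) {C : F}
    (hC : ¬ IsSquare C) : ∃ d v : F, d ≠ 0 ∧ v ≠ 0 ∧ v ^ 2 = 2 * (d ^ 3 + C * d) := by
  have hC0 : C ≠ 0 := fun e => hC (e ▸ IsSquare.zero)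
  have h20 : (2 : F) ≠ 0 := Ring.two_ne_zero h2
  by_contra hno
  push Not at hno
  have hval : ∀ d : F, d ≠ 0 → quadraticChar F (2 * (d ^ 3 + C * d)) ≠ 1 := by
    intro d hd he
    have hne : 2 * (d ^ 3 + C * d) ≠ 0 := fun e => by rw [e] at he; simp at he
    obtain ⟨v, hv⟩ := (quadraticChar_one_iff_isSquare hne).mp he
    exact hno d v hd (fun e => hne (by rw [hv, e, mul_zero])) (by rw [hv, sq])
  by_cases hm : IsSquare (-1 : F)
  · -- every value is a non-square
    have hm1 : quadraticChar F (-1) = 1 :=
      (quadraticChar_one_iff_isSquare (by simp)).mpr hm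
    have hall : ∀ d : F, d ≠ 0 → quadraticChar F (2 * (d ^ 3 + C * d)) = -1 := by
      intro d hd
      refine (quadraticChar_dichotomy fun e => ?_).resolve_left (hval d hd)
      have h : d ^ 2 = -1 * C := by
        have h' : d * (d ^ 2 + C) = 0 := by
          have := (mul_eq_zero.mp e).resolve_left h20
          linear_combination this
        linear_combination (mul_eq_zero.mp h').resolve_left hd
      obtain ⟨i, hi⟩ := hm
      refine hC ⟨d * i, ?_⟩
      linear_combination -(i * i) * h - C * hi
    set S : F → ℤ := fun C => ∑ x : F, quadraticChar F (x * (x ^ 2 + C)) with hS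
    have hSC : quadraticChar F 2 * S C = -((Fintype.card F : ℤ) - 1) := by
      have h : ∀ x : F, quadraticChar F 2 * quadraticChar F (x * (x ^ 2 + C)) =
          -(1 - if x = 0 then 1 else 0) := fun x => by
        by_cases hx : x = 0
        · subst hx; simp
        · rw [if_neg hx, sub_zero, ← map_mul, show 2 * (x * (x ^ 2 + C)) = 2 * (x ^ 3 + C * x) by ring,
            hall x hx]
      rw [hS, Finset.mul_sum]
      rw [Finset.sum_congr rfl fun x _ => h x, Finset.sum_neg_distrib, Finset.sum_sub_distrib]
      simp
    have hSC2 : S C ^ 2 = ((Fintype.card F : ℤ) - 1) ^ 2 := by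
      have := congrArg (· ^ 2) hSC
      simp only [mul_pow, quadraticChar_sq_one h20, one_mul, neg_sq] at this
      exact this
    have hscale : ∀ b : F, b ≠ 0 → S (C * b ^ 2) ^ 2 = S C ^ 2 := by
      intro b hb
      have : S (C * b ^ 2) = quadraticChar F b * S C := by
        rw [hS, Finset.mul_sum]
        refine (Fintype.sum_equiv (Equiv.mulLeft₀ b hb) _ _ fun x => ?_).symm
        show quadraticChar F b * _ = quadraticChar F (b * x * ((b * x) ^ 2 + C * b ^ 2))
        rw [show b * x * ((b * x) ^ 2 + C * b ^ 2) = b ^ 2 * (b * (x * (x ^ 2 + C))) by ring,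
          map_mul _ (b ^ 2), quadraticChar_sq_one' hb, one_mul]
        simp only [map_mul]
      rw [this, mul_pow, quadraticChar_sq_one hb, one_mul]
    have hlow : ∑ b ∈ Finset.univ.erase (0 : F), S (C * b ^ 2) ^ 2 ≤ 2 * ∑ D : F, S D ^ 2 := by
      rw [← Finset.sum_fiberwise (Finset.univ.erase (0 : F)) (fun b => C * b ^ 2), Finset.mul_sum]
      refine Finset.sum_le_sum fun D _ => ?_
      rw [Finset.sum_congr rfl (fun b hb => by rw [(Finset.mem_filter.mp hb).2]),
        Finset.sum_const, nsmul_eq_mul]
      refine mul_le_mul_of_nonneg_right ?_ (sq_nonneg _)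
      norm_cast
      by_cases hne : ((Finset.univ.erase (0 : F)).filter fun b => C * b ^ 2 = D).Nonempty
      · obtain ⟨b₀, hb₀⟩ := hne
        refine (Finset.card_le_card (fun b hb => ?_)).trans (Finset.card_le_two (a := b₀) (b := -b₀))
        have e := (Finset.mem_filter.mp hb).2.trans (Finset.mem_filter.mp hb₀).2.symm
        rcases sq_eq_sq_iff_eq_or_eq_neg.mp (mul_left_cancel₀ hC0 e) with h | h <;> simp [h]
      · rw [Finset.not_nonempty_iff_eq_empty.mp hne]; simp
    rw [Finset.sum_congr rfl (fun b hb => by rw [hscale b (Finset.mem_erase.mp hb).1, hSC2]),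
      Finset.sum_const, nsmul_eq_mul, Finset.card_erase_of_mem (Finset.mem_univ _), Finset.card_univ,
      moment h2 hm1] at hlow
    rw [Nat.cast_sub (by omega : 1 ≤ Fintype.card F)] at hlow
    push_cast at hlow
    have hq' : (6 : ℤ) ≤ Fintype.card F := by exact_mod_cast hq
    have hpos : (0 : ℤ) < (Fintype.card F : ℤ) - 1 := by omega
    have h4 : ((Fintype.card F : ℤ) - 1) ^ 2 ≤ 4 * Fintype.card F := by
      refine le_of_mul_le_mul_left ?_ hpos
      linarith
    nlinarith
  · -- the values at `d` and `-d` differ by a non-square factor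
    have hm1 : quadraticChar F (-1) = -1 := quadraticChar_neg_one_iff_not_isSquare.mpr hm
    obtain ⟨a, hC'⟩ : IsSquare (-C) := by
      have h1 : quadraticChar F C = -1 := quadraticChar_neg_one_iff_not_isSquare.mpr hC
      rw [← quadraticChar_one_iff_isSquare (neg_ne_zero.mpr hC0), show -C = -1 * C by ring, map_mul,
        hm1, h1]
      norm_num
    obtain ⟨d, -, hd⟩ := Finset.exists_mem_notMem_of_card_lt_card
      (s := ({0, a, -a} : Finset F)) (t := Finset.univ)
      (Finset.card_le_three.trans_lt (by rw [Finset.card_univ]; omega))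
    simp only [Finset.mem_insert, Finset.mem_singleton, not_or] at hd
    have hne : 2 * (d ^ 3 + C * d) ≠ 0 := by
      intro e
      have h' : d * (d ^ 2 - a ^ 2) = 0 := by
        have := (mul_eq_zero.mp e).resolve_left h20
        linear_combination this + d * hC'
      rcases sq_eq_sq_iff_eq_or_eq_neg.mp (sub_eq_zero.mp ((mul_eq_zero.mp h').resolve_left hd.1)) with h | h
      · exact hd.2.1 h
      · exact hd.2.2 h
    have h1 := (quadraticChar_dichotomy hne).resolve_left (hval d hd.1)
    refine hval (-d) (neg_ne_zero.mpr hd.1) ?_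
    rw [show 2 * ((-d) ^ 3 + C * -d) = -1 * (2 * (d ^ 3 + C * d)) by ring, map_mul, hm1, h1]
    norm_num

omit [DecidableEq F] in
/-- Four elements of sum zero, not all equal, with a given product. -/
theorem exists_zero_sum (hq : 6 ≤ Fintype.card F) {C : F} (hC : C ≠ 0) :
    ∃ n : Fin 4 → F, ∑ i, n i = 0 ∧ ∏ i, n i = C ∧ ∃ i j, n i ≠ n j := by
  classical
  by_cases hs : IsSquare C
  · obtain ⟨c, hc⟩ := hs
    have hc0 : c ≠ 0 := fun e => hC (by rw [hc, e, mul_zero])
    obtain ⟨x, hx0, hx⟩ : ∃ x : F, x ≠ 0 ∧ x ^ 2 ≠ c := by
      by_contra hh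
      push Not at hh
      obtain ⟨x, -, hx⟩ := Finset.exists_mem_notMem_of_card_lt_card (s := ({0, 1, -1} : Finset F))
        (t := Finset.univ) (Finset.card_le_three.trans_lt (by rw [Finset.card_univ]; omega))
      simp only [Finset.mem_insert, Finset.mem_singleton, not_or] at hx
      rcases sq_eq_sq_iff_eq_or_eq_neg.mp
        ((hh x hx.1).trans (hh 1 one_ne_zero).symm) with h | h
      · exact hx.2.1 h
      · exact hx.2.2 h
    refine ⟨![x, -x, c / x, -(c / x)], ?_, ?_, 0, 2, fun e => hx ?_⟩
    · simp [Fin.sum_univ_four]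
    · simp [Fin.prod_univ_four, hc]; field_simp
    · simp at e; field_simp at e; linear_combination e
  · have h2 : ringChar F ≠ 2 := fun h => hs (FiniteField.isSquare_of_char_two h C)
    obtain ⟨d, v, hd, hv, hvd⟩ := exists_square_value h2 hq hs
    have h20 : (2 : F) ≠ 0 := Ring.two_ne_zero h2
    set z := v / (2 * d) with hz
    set w := (d - C / d) / 2 with hw
    have hz0 : z ≠ 0 := div_ne_zero hv (mul_ne_zero h20 hd)
    have hz2 : z ^ 2 = (d + C / d) / 2 := by
      rw [hz, div_pow, hvd]; field_simp; try ring
    have hw0 : w ≠ 0 := fun e => hs ⟨d, by rw [hw] at e; field_simp at e; linear_combination -e⟩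
    clear_value z
    refine ⟨![-z + w / z, -z - w / z, z, z], ?_, ?_, 0, 1, fun e => ?_⟩
    · simp [Fin.sum_univ_four]
    · simp [Fin.prod_univ_four]
      rw [show (-z + w / z) * (-z - w / z) * z * z = (z ^ 2) ^ 2 - w ^ 2 by field_simp; ring, hz2, hw]
      field_simp
      try ring
    · simp at e
      have : 2 * (w / z) = 0 := by linear_combination e
      simp [h20, hw0, hz0] at this

end Cfsg.Agent.SL4Geo89
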